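import Cfsg.Agent.Lib.JankoCent.Functions
import Cfsg.Agent.Lib.Characters.Values
import Cfsg.Agent.Lib.Characters.Galois
import Mathlib.GroupTheory.OrderOfElement
import Mathlib.Tactic.Group

/-!
# Induction from the centralizer
-/

set_option autoImplicit false
set_option linter.style.haveILetI false

namespace CfsgLib.JankoCent

open Cfsg CfsgLib.Characters
open scoped ComplexConjugate

variable {G : Type*} [Group G] {t : G}

/-- The centralizer of `t`. -/
abbrev Ct (t : G) : Subgroup G := Subgroup.centralizer ({t} : Set G)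

/-- The coordinates of an element of the centralizer. -/
noncomputable def cc (e : Ct t ≃* M) (h : Ct t) : T := coords (e h)

/-- The function on the centralizer with values `v`. -/
noncomputable def th (e : Ct t ≃* M) (v : Fin 10 → ℂ) : Ct t → ℂ := fun h => v (cls (cc e h))

/-- Vanishing off the support. -/
def Supp (v : Fin 10 → ℂ) : Prop := ∀ i, i ∉ ([5, 7, 8, 9] : List (Fin 10)) → v i = 0

theorem cc_mem (e : Ct t ≃* M) (h : Ct t) : cc e h ∈ gl := mem_gl _

theorem cc_injective (e : Ct t ≃* M) : Function.Injective (cc e) :=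
  coords_injective.comp e.injective

theorem cc_one (e : Ct t ≃* M) : cc e 1 = t1 := by rw [cc, map_one, coords_one]

theorem cc_mul (e : Ct t ≃* M) (a b : Ct t) : cc e (a * b) = tmul (cc e a) (cc e b) := by
  rw [cc, map_mul, coords_mul]; rfl

theorem cc_pow (e : Ct t ≃* M) (a : Ct t) (n : ℕ) : cc e (a ^ n) = tpow (cc e a) n := by
  rw [cc, map_pow, coords_pow]; rfl

theorem cc_surj (e : Ct t ≃* M) {x : T} (hx : x ∈ gl) : ∃ h : Ct t, cc e h = x := by
  obtain ⟨g, hg⟩ := exists_coords hx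
  exact ⟨e.symm g, by rw [cc, e.apply_symm_apply, hg]⟩

theorem mem_Ct {g : G} : g ∈ Ct t ↔ g * t = t * g := Subgroup.mem_centralizer_singleton_iff

theorem sq_t (ht : orderOf t = 2) : t * t = 1 := by
  rw [← sq, ← ht, pow_orderOf_eq_one]

theorem t_ne_one (ht : orderOf t = 2) : t ≠ 1 := by
  rintro rfl; rw [orderOf_one] at ht; omega

/-- The involution inside its centralizer. -/
def tC (t : G) : Ct t := ⟨t, mem_Ct.2 rfl⟩

theorem isInv_iff (e : Ct t ≃* M) (a : Ct t) :
    isInv (cc e a) ↔ ((a : G) * a = 1 ∧ (a : G) ≠ 1) := by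
  rw [isInv, ← cc_mul, ← cc_one e, (cc_injective e).eq_iff, Ne, Ne, (cc_injective e).eq_iff,
    Subtype.ext_iff, Subtype.ext_iff]
  rfl

theorem cc_tC (e : Ct t ≃* M) (ht : orderOf t = 2) : cc e (tC t) = tT := by
  refine central_involution _ (cc_mem e _) ((isInv_iff e _).2 ⟨sq_t ht, t_ne_one ht⟩) ?_
  intro y hy
  obtain ⟨h, rfl⟩ := cc_surj e hy
  rw [← cc_mul, ← cc_mul]
  exact congrArg (cc e) (Subtype.ext (mem_Ct.1 h.2).symm)

theorem eq_tC_iff (e : Ct t ≃* M) (ht : orderOf t = 2) (h : Ct t) :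
    (h : G) = t ↔ cc e h = tT := by
  rw [← cc_tC e ht]
  exact ⟨fun h' => congrArg (cc e) (Subtype.ext h'),
    fun h' => congrArg Subtype.val (cc_injective e h')⟩

theorem pow_eq_t (e : Ct t ≃* M) (ht : orderOf t = 2) {x : Ct t} (hx : inD (cc e x)) :
    (x : G) ^ 15 = t := by
  have h := inD_pow _ (cc_mem e x) hx
  rwa [← cc_pow, ← eq_tC_iff e ht, Subgroup.coe_pow] at h

/-- The support is a trivial intersection set. -/
theorem mem_of_conj (e : Ct t ≃* M) (ht : orderOf t = 2) {x y : Ct t} (hx : inD (cc e x))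
    (hy : inD (cc e y)) {g : G} (h : g * x * g⁻¹ = y) : g ∈ Ct t := by
  have h1 := congrArg (· ^ 15) h
  simp only [conj_pow, pow_eq_t e ht hx, pow_eq_t e ht hy] at h1
  exact mem_Ct.2 (mul_inv_eq_iff_eq_mul.1 h1)

theorem th_eq_zero (e : Ct t ≃* M) {v : Fin 10 → ℂ} (hv : Supp v) {h : Ct t}
    (hh : ¬ inD (cc e h)) : th e v h = 0 := hv _ hh

theorem th_conj (e : Ct t ≃* M) (v : Fin 10 → ℂ) (a b : Ct t) :
    th e v (b * a * b⁻¹) = th e v a := by
  simp only [th, cc, map_mul, map_inv]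
  exact isClassFunction_cf v _ _

theorem isGeneralized_th (e : Ct t ≃* M) {v : Fin 10 → ℂ}
    (hv : IsGeneralizedCharacter M (cf v)) : IsGeneralizedCharacter (Ct t) (th e v) := by
  obtain ⟨χ, ψ, hχ, hψ, he⟩ := hv
  exact ⟨fun h => χ (e h), fun h => ψ (e h), CfsgLib.CharGalois.isCharacter_comp hχ e.toMonoidHom,
    CfsgLib.CharGalois.isCharacter_comp hψ e.toMonoidHom, funext fun h => congrFun he (e h)⟩

theorem sum_th [Fintype (Ct t)] (e : Ct t ≃* M) (f : Fin 10 → ℂ) :
    ∑ h : Ct t, th e f h = ∑ i, (clsSize i : ℂ) * f i := by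
  letI : Fintype M := Fintype.ofEquiv _ e.toEquiv
  rw [← sum_cls f]
  exact Fintype.sum_equiv e.toEquiv _ _ fun h => rfl

theorem card_Ct (e : Ct t ≃* M) : Nat.card (Ct t) = 120 := by
  rw [Nat.card_congr e.toEquiv, card_M]

/-- A class function is determined on the centralizer by the representatives. -/
theorem exists_vec (e : Ct t ≃* M) {f : G → ℂ} (hf : IsClassFunction G f) :
    ∃ v : Fin 10 → ℂ, ∀ h : Ct t, f (h : G) = th e v h := by
  choose r hr using fun i => cc_surj e (rep_mem i)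
  refine ⟨fun i => f (r i : G), fun h => ?_⟩
  obtain ⟨x, hx, hxg⟩ := conj_rep _ (cc_mem e h)
  obtain ⟨a, rfl⟩ := cc_surj e hx
  rw [← hr (cls (cc e h))] at hxg
  simp only [cc] at hxg
  rw [← coords_conj, ← map_inv, ← map_mul, ← map_mul] at hxg
  have h1 := e.injective (coords_injective hxg)
  calc f (h : G) = f ((a⁻¹ * r (cls (cc e h)) * a : Ct t) : G) := by
        rw [show (a⁻¹ * r (cls (cc e h)) * a : Ct t) = h from h1]
    _ = th e (fun i => f (r i : G)) h := by
        have := hf (r (cls (cc e h)) : G) (a : G)⁻¹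
        rw [inv_inv] at this
        simpa [th] using this

variable [Fintype G]

/-- Restriction of the induced function to the support. -/
theorem ind_apply_inD (e : Ct t ≃* M) (ht : orderOf t = 2) {v : Fin 10 → ℂ} (hv : Supp v)
    {x : Ct t} (hx : inD (cc e x)) : indFun (Ct t) (th e v) (x : G) = th e v x := by
  classical
  rw [CfsgLib.Induction.indFun_apply, card_Ct e]
  have key : ∀ g : G, extendByZero (Ct t) (th e v) (g⁻¹ * x * g) =
      if g ∈ Ct t then th e v x else 0 := by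
    intro g
    by_cases hg : g ∈ Ct t
    · have hm : g⁻¹ * x * g ∈ Ct t := mul_mem (mul_mem (inv_mem hg) x.2) hg
      rw [if_pos hg, CfsgLib.Induction.extendByZero_mem _ _ hm]
      rw [show (⟨g⁻¹ * x * g, hm⟩ : Ct t) = (⟨g, hg⟩ : Ct t)⁻¹ * x * (⟨g, hg⟩ : Ct t)⁻¹⁻¹ from
        Subtype.ext (by simp)]
      exact th_conj e v x _
    · rw [if_neg hg]
      by_cases hm : g⁻¹ * x * g ∈ Ct t
      · rw [CfsgLib.Induction.extendByZero_mem _ _ hm]
        refine th_eq_zero e hv fun hy => hg ?_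
        exact mem_of_conj e ht hy hx (show g * (g⁻¹ * x * g) * g⁻¹ = x by group)
      · rw [CfsgLib.Induction.extendByZero_notMem _ _ hm]
  rw [Finset.sum_congr rfl fun g _ => key g, ← Finset.sum_filter, Finset.sum_const, nsmul_eq_mul,
    ← Fintype.card_subtype, ← Nat.card_eq_fintype_card, card_Ct e]
  push_cast
  ring

/-- The induced function vanishes at elements without conjugates in the support. -/
theorem ind_apply_zero (e : Ct t ≃* M) {v : Fin 10 → ℂ} (hv : Supp v) {y : G}
    (hy : ∀ g : G, ∀ h : Ct t, g⁻¹ * y * g = h → ¬ inD (cc e h)) :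
    indFun (Ct t) (th e v) y = 0 := by
  rw [CfsgLib.Induction.indFun_apply, Finset.sum_eq_zero, mul_zero]
  intro g _
  by_cases hm : g⁻¹ * y * g ∈ Ct t
  · rw [CfsgLib.Induction.extendByZero_mem _ _ hm]
    exact th_eq_zero e hv (hy g ⟨_, hm⟩ rfl)
  · rw [CfsgLib.Induction.extendByZero_notMem _ _ hm]

theorem ind_apply_one (e : Ct t ≃* M) {v : Fin 10 → ℂ} (hv : Supp v) :
    indFun (Ct t) (th e v) 1 = 0 := by
  refine ind_apply_zero e hv fun g h hgh => ?_
  have : h = 1 := Subtype.ext (by rw [← hgh]; simp)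
  rw [this, cc_one]
  decide +kernel

theorem ind_apply_seven (e : Ct t ≃* M) (ht : orderOf t = 2) {v : Fin 10 → ℂ} (hv : Supp v)
    {y : G} (hy : y ^ 7 = 1) : indFun (Ct t) (th e v) y = 0 := by
  refine ind_apply_zero e hv fun g h hgh hh => t_ne_one ht ?_
  have h7 : (h : G) ^ 7 = 1 := by
    rw [← hgh, show g⁻¹ * y * g = g⁻¹ * y * g⁻¹⁻¹ by rw [inv_inv], conj_pow, hy]
    simp
  have h15 := pow_eq_t e ht hh
  have h1 : t ^ 7 = 1 := by rw [← h15, ← pow_mul, mul_comm, pow_mul, h7, one_pow]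
  calc t = t * (t * t) ^ 3 := by rw [sq_t ht, one_pow, mul_one]
    _ = t ^ 7 := by rw [← sq, ← pow_mul, ← pow_succ']
    _ = 1 := h1

theorem isClassFunction_indT (e : Ct t ≃* M) {v : Fin 10 → ℂ}
    (hg : IsGeneralizedCharacter M (cf v)) : IsClassFunction G (indFun (Ct t) (th e v)) := by
  classical
  exact isClassFunction_of_isGeneralizedCharacter
    (CfsgLib.CharArtin.isGeneralizedCharacter_indFun _ (isGeneralized_th e hg))

/-- Induction from the centralizer preserves inner products on the support. -/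
theorem inner_ind (e : Ct t ≃* M) (ht : orderOf t = 2) {v w : Fin 10 → ℂ} (hv : Supp v)
    (hw : Supp w) (hg : IsGeneralizedCharacter M (cf w)) :
    classInner (indFun (Ct t) (th e v)) (indFun (Ct t) (th e w)) =
      (120 : ℂ)⁻¹ * ∑ i, (clsSize i : ℂ) * (v i * conj (w i)) := by
  classical
  letI : Fintype (Ct t) := Fintype.ofFinite _
  rw [CfsgLib.Induction.classInner_indFun _ _ (isClassFunction_indT e hg), classInner, card_Ct e,
    ← sum_th e]
  norm_num
  refine Finset.sum_congr rfl fun h _ => ?_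
  by_cases hh : inD (cc e h)
  · rw [ind_apply_inD e ht hw hh]; rfl
  · rw [th_eq_zero e hv hh, zero_mul]
    simp only [th] at *
    rw [hv _ hh, zero_mul]

/-- Frobenius reciprocity for a class function given by its vector on the centralizer. -/
theorem inner_ind_vec (e : Ct t ≃* M) (v : Fin 10 → ℂ) {f : G → ℂ} (hf : IsClassFunction G f)
    {w : Fin 10 → ℂ} (hw : ∀ h : Ct t, f (h : G) = th e w h) :
    classInner (indFun (Ct t) (th e v)) f =
      (120 : ℂ)⁻¹ * ∑ i, (clsSize i : ℂ) * (v i * conj (w i)) := by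
  classical
  letI : Fintype (Ct t) := Fintype.ofFinite _
  rw [CfsgLib.Induction.classInner_indFun _ _ hf, classInner, card_Ct e, ← sum_th e]
  norm_num
  refine Finset.sum_congr rfl fun h _ => ?_
  rw [hw h]
  rfl

omit [Fintype G] in
theorem sq_of_isConj (ht : orderOf t = 2) {a : G} (ha : IsConj t a) : a * a = 1 ∧ a ≠ 1 := by
  obtain ⟨g, rfl⟩ := isConj_iff.1 ha
  refine ⟨?_, fun h => t_ne_one ht (by simpa using h)⟩
  rw [show g * t * g⁻¹ * (g * t * g⁻¹) = g * (t * t) * g⁻¹ by group, sq_t ht]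
  group

/-- The number of factorisations of an element into two conjugates of `t`. -/
noncomputable def pairs [DecidableRel (IsConj : G → G → Prop)] (t x : G) : ℕ :=
  (Finset.univ.filter fun a : G => IsConj t a ∧ IsConj t (a * x)).card

theorem pairs_conj [DecidableRel (IsConj : G → G → Prop)] (t x g : G) :
    pairs t (g * x * g⁻¹) = pairs t x := by
  have hconj : ∀ (g a : G), IsConj t (g * a * g⁻¹) ↔ IsConj t a := fun g a =>
    ⟨fun h => h.trans (isConj_iff.2 ⟨g⁻¹, by group⟩), fun h => h.trans (isConj_iff.2 ⟨g, rfl⟩)⟩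
  refine (Finset.card_bij' (fun a _ => g * a * g⁻¹) (fun a _ => g⁻¹ * a * g) ?_ ?_ ?_ ?_).symm
  · intro a ha
    simp only [Finset.mem_filter, Finset.mem_univ, true_and] at ha ⊢
    refine ⟨(hconj g a).2 ha.1, ?_⟩
    rw [show g * a * g⁻¹ * (g * x * g⁻¹) = g * (a * x) * g⁻¹ by group]
    exact (hconj g _).2 ha.2
  · intro a ha
    simp only [Finset.mem_filter, Finset.mem_univ, true_and] at ha ⊢
    refine ⟨(hconj g _).1 (by simpa [mul_assoc] using ha.1), (hconj g _).1 ?_⟩
    rw [show g * (g⁻¹ * a * g * x) * g⁻¹ = a * (g * x * g⁻¹) by group]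
    exact ha.2
  · intro a _; group
  · intro a _; group

theorem sum_pairs [DecidableRel (IsConj : G → G → Prop)] (ht : orderOf t = 2) (F : G → ℂ) :
    ∑ a ∈ Finset.univ.filter (IsConj t), ∑ b ∈ Finset.univ.filter (IsConj t), F (a * b) =
      ∑ x : G, F x * (pairs t x : ℂ) := by
  calc ∑ a ∈ Finset.univ.filter (IsConj t), ∑ b ∈ Finset.univ.filter (IsConj t), F (a * b)
      = ∑ a ∈ Finset.univ.filter (IsConj t), ∑ x : G, if IsConj t (a * x) then F x else 0 := by
        refine Finset.sum_congr rfl fun a ha => ?_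
        rw [Finset.sum_filter]
        refine Fintype.sum_equiv (Equiv.mulLeft a) _ _ fun b => ?_
        rw [Equiv.coe_mulLeft, ← mul_assoc, (sq_of_isConj ht (Finset.mem_filter.1 ha).2).1,
          one_mul]
    _ = ∑ x : G, F x * (pairs t x : ℂ) := by
        rw [Finset.sum_comm]
        refine Finset.sum_congr rfl fun x _ => ?_
        rw [← Finset.sum_filter, Finset.sum_const, Finset.filter_filter, nsmul_eq_mul, mul_comm]
        rfl

/-- The structure constant against an induced function. -/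
theorem sum_involution_products [DecidableRel (IsConj : G → G → Prop)] (e : Ct t ≃* M)
    (ht : orderOf t = 2) {v : Fin 10 → ℂ} (hv : Supp v) (w : Fin 10 → ℂ)
    (hN : ∀ x : Ct t, inD (cc e x) → (pairs t (x : G) : ℂ) = w (cls (cc e x))) :
    ∑ a ∈ Finset.univ.filter (IsConj t), ∑ b ∈ Finset.univ.filter (IsConj t),
        indFun (Ct t) (th e v) (a * b) =
      (Nat.card G : ℂ) * (120 : ℂ)⁻¹ * ∑ i, (clsSize i : ℂ) * (v i * w i) := by
  letI : Fintype (Ct t) := Fintype.ofFinite _
  have hn : IsClassFunction G fun x => (pairs t x : ℂ) := fun x g => by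
    simp only [pairs_conj]
  have h2 := CfsgLib.Induction.sum_indFun_mul (Ct t) (th e v)
    (f := fun x => (pairs t x : ℂ)) hn
  have hg : (Nat.card G : ℂ) ≠ 0 := Nat.cast_ne_zero.2 Nat.card_pos.ne'
  rw [sum_pairs ht, ← sum_th e, mul_assoc,
    show (120 : ℂ)⁻¹ * ∑ h : Ct t, th e (fun i => v i * w i) h =
      (Nat.card (Ct t) : ℂ)⁻¹ * ∑ h : Ct t, th e v h * (pairs t (h : G) : ℂ) from ?_, ← h2]
  · rw [← mul_assoc, mul_inv_cancel₀ hg, one_mul]
  · rw [card_Ct e]
    norm_num
    refine Finset.sum_congr rfl fun h _ => ?_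
    by_cases hh : inD (cc e h)
    · rw [hN h hh]; rfl
    · rw [th_eq_zero e hv hh, zero_mul]
      simp only [th] at *
      rw [hv _ hh, zero_mul]

omit [Fintype G] in
theorem conj_t_eq {x : G} {k : ℕ} (hk : x ^ k = t) (ht : orderOf t = 2) {a : G}
    (h1 : a * a = 1) (h2 : a * x * (a * x) = 1) : a ∈ Ct t := by
  have h3 : a * x * a⁻¹ = x⁻¹ := by
    rw [show a⁻¹ = a from inv_eq_of_mul_eq_one_right h1]
    exact eq_inv_of_mul_eq_one_left (by rw [mul_assoc, mul_assoc, ← mul_assoc]; exact h2)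
  have h4 := congrArg (· ^ k) h3
  simp only [conj_pow, hk, inv_pow, inv_eq_of_mul_eq_one_right (sq_t ht)] at h4
  exact mem_Ct.2 (mul_inv_eq_iff_eq_mul.1 h4)

/-- The count when all involutions of the centralizer are conjugate to `t`. -/
theorem count_fused [DecidableRel (IsConj : G → G → Prop)] (e : Ct t ≃* M) (ht : orderOf t = 2)
    (hall : ∀ a : Ct t, (a : G) * a = 1 → (a : G) ≠ 1 → IsConj t (a : G)) (x : Ct t)
    (hx : inD (cc e x)) : pairs t (x : G) = invTbl (cls (cc e x)) := by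
  have hk := pow_eq_t e ht hx
  rw [← card_invCount _ (cc_mem e x) hx, invCount, ← card_toFinset_filter, pairs]
  have hmem : ∀ a ∈ Finset.univ.filter (fun a : G => IsConj t a ∧ IsConj t (a * x)), a ∈ Ct t :=
    fun a ha => conj_t_eq hk ht (sq_of_isConj ht (Finset.mem_filter.1 ha).2.1).1
      (sq_of_isConj ht (Finset.mem_filter.1 ha).2.2).1
  refine Finset.card_bij (fun a ha => cc e ⟨a, hmem a ha⟩) ?_ ?_ ?_
  · intro a ha
    have q := (isInv_iff e (⟨a, hmem a ha⟩ * x)).2 (sq_of_isConj ht (Finset.mem_filter.1 ha).2.2)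
    rw [cc_mul e _ x] at q
    exact Finset.mem_filter.2 ⟨List.mem_toFinset.2 (cc_mem e _),
      (isInv_iff e ⟨a, hmem a ha⟩).2 (sq_of_isConj ht (Finset.mem_filter.1 ha).2.1), q⟩
  · intro a _ b _ h
    exact congrArg Subtype.val (cc_injective e h)
  · intro y hy
    obtain ⟨hy0, hy1, hy2⟩ := Finset.mem_filter.1 hy
    obtain ⟨a, rfl⟩ := cc_surj e (List.mem_toFinset.1 hy0)
    rw [← cc_mul] at hy2
    refine ⟨a, Finset.mem_filter.2 ⟨Finset.mem_univ _, ?_⟩, rfl⟩
    obtain ⟨p1, p2⟩ := (isInv_iff e a).1 hy1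
    obtain ⟨q1, q2⟩ := (isInv_iff e (a * x)).1 hy2
    exact ⟨hall a p1 p2, hall (a * x) q1 q2⟩

end CfsgLib.JankoCent
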