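import Mathlib.Algebra.Order.Ring.Abs
import Mathlib.Algebra.Order.Field.Basic
import Mathlib.Algebra.Order.Ring.Rat
import Mathlib.Data.Rat.Defs
import Mathlib.RingTheory.Coprime.Lemmas
import Mathlib.Tactic.FieldSimp
import Mathlib.Tactic.IntervalCases
import Mathlib.Tactic.LinearCombination
import Mathlib.Tactic.Linarith
import Mathlib.Tactic.Ring
import Mathlib.Tactic.NormNum
import Mathlib.Tactic.Positivity

/-!
# The order equations for the centralizer `2 × A₅`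
-/

set_option autoImplicit false
set_option maxRecDepth 100000
set_option maxHeartbeats 8000000

namespace CfsgLib.JankoCent

/-- The test on the signed degrees in the main pattern. -/
def p1Ok (S R : ℤ) : Bool :=
  let R2 := -1 - S - R
  let q := R * R2
  let u := 1 + S
  let den := u * (q - 9 * S)
  let num := 144000 * S * q
  if S = 1 ∨ R = 3 ∨ R2 = 3 ∨ den = 0 ∨ num % den ≠ 0 then true
  else
    let g := num / den
    if g ≤ 0 ∨ g % 16 ≠ 8 ∨ g % 15 ≠ 0 ∨ g < 1 + S * S + 2 * (R * R + R2 * R2) ∨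
      R2.natAbs < R.natAbs then true
    else
      let d := u * g - 86400 * S
      if d = 0 ∨ 25 * u * S * g % d ≠ 0 then true
      else decide (g = 175560 ∨ (g = 189000 ∧ ((S = -15 ∧ R = -21) ∨ (S = -7 ∧ R = -21))))

theorem p1_box : ∀ a : Fin 211, ∀ b : Fin 106,
    p1Ok (8 * (a.val : ℤ) - 839) (8 * (b.val : ℤ) - 421) = true := by decide +kernel

theorem abs_div_le {x : ℤ} {k : ℚ} {n : ℕ} (hk : 0 ≤ k) (hn : 0 < n) (hx : (n : ℤ) ≤ |x|) :
    |k / (x : ℚ)| ≤ k / n := by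
  rw [abs_div, abs_of_nonneg hk]
  refine div_le_div_of_nonneg_left hk (by exact_mod_cast hn) ?_
  exact_mod_cast hx

theorem p1_order {g S R1 R2 : ℤ} (hg : 0 < g) (hS : S % 8 = 1) (hR1 : R1 % 8 = 3)
    (hR2 : R2 % 8 = 3) (hS1 : S ≠ 1) (hR13 : R1 ≠ 3)
    (hsum : R1 + R2 = -1 - S) (hle : |R1| ≤ |R2|) (h100 : 100 ≤ |R2|)
    (hE : (g : ℚ) * (1 + 1 / S + 9 / R1 + 9 / R2) = 144000) : g ≤ 700000 := by
  have hg' : (0 : ℚ) < g := by exact_mod_cast hg
  have b2 := abs_le.1 (abs_div_le (k := 9) (n := 100) (by norm_num) (by norm_num)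
    (by exact_mod_cast h100) : |(9 : ℚ) / (R2 : ℚ)| ≤ _)
  by_contra hlt
  push Not at hlt
  have hlt' : (700000 : ℚ) < g := by exact_mod_cast hlt
  have hS7 : (7 : ℤ) ≤ |S| := by
    rcases abs_cases S with ⟨h, _⟩ | ⟨h, _⟩ <;> omega
  have bS := abs_le.1 (abs_div_le (k := 1) (n := 7) (by norm_num) (by norm_num)
    (by exact_mod_cast hS7) : |(1 : ℚ) / (S : ℚ)| ≤ _)
  have hE' : 1 + 1 / (S : ℚ) + 9 / R1 + 9 / R2 < 144000 / 700000 := by
    rw [show 1 + 1 / (S : ℚ) + 9 / R1 + 9 / R2 = 144000 / g by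
      rw [eq_div_iff hg'.ne']; linarith]
    exact div_lt_div_of_pos_left (by norm_num) (by norm_num) hlt'
  by_cases h5 : R1 = -5
  · subst h5
    have hS9 : (9 : ℤ) ≤ |S| := by
      rcases abs_cases S with ⟨h, _⟩ | ⟨h, _⟩ <;> rcases abs_cases R2 with ⟨h', _⟩ | ⟨h', _⟩ <;>
        omega
    have bS' := abs_le.1 (abs_div_le (k := 1) (n := 9) (by norm_num) (by norm_num)
      (by exact_mod_cast hS9) : |(1 : ℚ) / (S : ℚ)| ≤ _)
    have hneg : 1 + 1 / (S : ℚ) + 9 / ((-5 : ℤ) : ℚ) + 9 / R2 < 0 := by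
      push_cast
      norm_num at bS' b2 ⊢
      linarith
    nlinarith
  by_cases h13 : R1 = -13
  · subst h13
    have hS88 : (88 : ℤ) ≤ |S| := by
      rcases abs_cases S with ⟨h, _⟩ | ⟨h, _⟩ <;> rcases abs_cases R2 with ⟨h', _⟩ | ⟨h', _⟩ <;>
        omega
    have bS' := abs_le.1 (abs_div_le (k := 1) (n := 88) (by norm_num) (by norm_num)
      (by exact_mod_cast hS88) : |(1 : ℚ) / (S : ℚ)| ≤ _)
    push_cast at hE'
    norm_num at bS' b2 hE' ⊢
    linarith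
  have b1 : -(9 / 21 : ℚ) ≤ 9 / (R1 : ℚ) := by
    rcases lt_or_ge R1 0 with hn | hp
    · have h21 : (21 : ℤ) ≤ |R1| := by rw [abs_of_neg hn]; omega
      have := abs_le.1 (abs_div_le (k := 9) (n := 21) (by norm_num) (by norm_num)
        (by exact_mod_cast h21) : |(9 : ℚ) / (R1 : ℚ)| ≤ _)
      norm_num at this ⊢
      linarith
    · have : (0 : ℚ) ≤ 9 / (R1 : ℚ) := div_nonneg (by norm_num) (by exact_mod_cast hp)
      linarith
  norm_num at bS b2 b1 hE'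
  linarith

theorem p1_core {g S R1 R2 P1 P2 : ℤ} (hg : 0 < g) (h16 : g % 16 = 8) (h15 : g % 15 = 0)
    (hS : S % 8 = 1) (hR1 : R1 % 8 = 3) (hR2 : R2 % 8 = 3) (hS1 : S ≠ 1) (hR13 : R1 ≠ 3)
    (hR23 : R2 ≠ 3) (hsumR : R1 + R2 = -1 - S) (hsumP : P1 + P2 = 1 + S)
    (e3 : g * (S * R1 * R2 + R1 * R2 + 9 * S * (R1 + R2)) = 144000 * (S * R1 * R2))
    (e4 : g * (-(S * P1 * P2) - P1 * P2 + 25 * S * (P1 + P2)) = -86400 * (S * P1 * P2))
    (hsq : 1 + S ^ 2 + 2 * (R1 ^ 2 + R2 ^ 2) + (P1 ^ 2 + P2 ^ 2) ≤ g) (hle : |R1| ≤ |R2|) :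
    g = 175560 ∨ (g = 189000 ∧ S = -15 ∧ R1 = -21 ∧ R2 = 35 ∧
      ((P1 = 21 ∧ P2 = -35) ∨ (P1 = -35 ∧ P2 = 21))) := by
  have hS0 : (S : ℚ) ≠ 0 := Int.cast_ne_zero.2 (by omega)
  have hR10 : (R1 : ℚ) ≠ 0 := Int.cast_ne_zero.2 (by omega)
  have hR20 : (R2 : ℚ) ≠ 0 := Int.cast_ne_zero.2 (by omega)
  have hR2e : R2 = -1 - S - R1 := by omega
  have hbox : |S| ≤ 840 ∧ |R1| ≤ 420 := by
    by_cases h100 : 100 ≤ |R2|
    · have hE : (g : ℚ) * (1 + 1 / S + 9 / R1 + 9 / R2) = 144000 := by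
        have e3' : (g : ℚ) * (S * R1 * R2 + R1 * R2 + 9 * S * (R1 + R2)) =
            144000 * (S * R1 * R2) := by exact_mod_cast e3
        field_simp
        linear_combination e3'
      have hb := p1_order hg hS hR1 hR2 hS1 hR13 hsumR hle h100 hE
      have hq : R1 ^ 2 ≤ R2 ^ 2 := sq_le_sq.2 hle
      constructor <;> rw [abs_le] <;> constructor <;>
        nlinarith [sq_nonneg P1, sq_nonneg P2, sq_nonneg S, sq_nonneg R1]
    · constructor <;> rcases abs_cases S with ⟨h, _⟩ | ⟨h, _⟩ <;>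
        rcases abs_cases R1 with ⟨h', _⟩ | ⟨h', _⟩ <;>
        rcases abs_cases R2 with ⟨h'', _⟩ | ⟨h'', _⟩ <;> omega
  obtain ⟨hbS, hbR⟩ := hbox
  rw [abs_le] at hbS hbR
  obtain ⟨a, ha⟩ : ∃ a : Fin 211, S = 8 * (a.val : ℤ) - 839 :=
    ⟨⟨((S + 839) / 8).toNat, by omega⟩, by simp only; omega⟩
  obtain ⟨b, hb⟩ : ∃ b : Fin 106, R1 = 8 * (b.val : ℤ) - 421 :=
    ⟨⟨((R1 + 421) / 8).toNat, by omega⟩, by simp only; omega⟩
  have h := p1_box a b
  rw [← ha, ← hb] at h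
  have hu : (1 + S) ≠ 0 := by omega
  have eden : g * ((1 + S) * (R1 * R2 - 9 * S)) = 144000 * S * (R1 * R2) := by
    linear_combination e3 - 9 * g * S * hsumR
  have hden : (1 + S) * (R1 * R2 - 9 * S) ≠ 0 := by
    intro h0
    rw [h0, mul_zero] at eden
    rcases mul_eq_zero.1 eden.symm with h1 | h1
    · omega
    · rcases mul_eq_zero.1 h1 with h2 | h2 <;> omega
  have hdiv : 144000 * S * (R1 * R2) / ((1 + S) * (R1 * R2 - 9 * S)) = g := by
    rw [← eden, Int.mul_ediv_cancel _ hden]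
  have hmod : 144000 * S * (R1 * R2) % ((1 + S) * (R1 * R2 - 9 * S)) = 0 := by
    rw [← eden]; exact Int.mul_emod_left _ _
  have ep : P1 * P2 * ((1 + S) * g - 86400 * S) = 25 * (1 + S) * S * g := by
    linear_combination -e4 + 25 * g * S * hsumP
  have hd : (1 + S) * g - 86400 * S ≠ 0 := by
    intro h0
    rw [h0, mul_zero] at ep
    rcases mul_eq_zero.1 ep.symm with h1 | h1
    · rcases mul_eq_zero.1 h1 with h2 | h2 <;> omega
    · omega
  have hpm : 25 * (1 + S) * S * g % ((1 + S) * g - 86400 * S) = 0 := by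
    rw [← ep]; exact Int.mul_emod_left _ _
  have hsq' : ¬ g < 1 + S * S + 2 * (R1 * R1 + R2 * R2) := by
    nlinarith [sq_nonneg P1, sq_nonneg P2]
  have hna : ¬ R2.natAbs < R1.natAbs := by
    rw [Int.abs_eq_natAbs, Int.abs_eq_natAbs] at hle
    omega
  simp only [p1Ok, ← hR2e, hdiv] at h
  rw [if_neg (by simp only [hmod]; push Not; exact ⟨hS1, hR13, hR23, hden, rfl⟩),
    if_neg (by push Not; exact ⟨hg, h16, h15, not_lt.1 hsq', not_lt.1 hna⟩),
    if_neg (by push Not; exact ⟨hd, hpm⟩), decide_eq_true_eq] at h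
  rcases h with h | ⟨h, ⟨h1, h2⟩ | ⟨h1, h2⟩⟩
  · exact Or.inl h
  · subst h h1 h2
    have hP : (P1 - 21) * (P1 + 35) = 0 := by
      have : P2 = -14 - P1 := by omega
      subst this
      linarith
    refine Or.inr ⟨rfl, rfl, rfl, by omega, ?_⟩
    rcases mul_eq_zero.1 hP with h3 | h3
    · left; constructor <;> omega
    · right; constructor <;> omega
  · exfalso
    subst h h1 h2
    have : P2 = -6 - P1 := by omega
    subst this
    have hP : P1 * P1 + 6 * P1 - 375 = 0 := by linarith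
    have hl : -24 ≤ P1 := by nlinarith
    have hh : P1 ≤ 18 := by nlinarith
    interval_cases P1 <;> norm_num at hP

/-- The main pattern. -/
theorem p1_arith {g S R1 R2 P1 P2 : ℤ} (hg : 0 < g) (h16 : g % 16 = 8) (h15 : g % 15 = 0)
    (hS : S % 8 = 1) (hR1 : R1 % 8 = 3) (hR2 : R2 % 8 = 3) (hS1 : S ≠ 1) (hR13 : R1 ≠ 3)
    (hR23 : R2 ≠ 3) (hsumR : R1 + R2 = -1 - S) (hsumP : P1 + P2 = 1 + S)
    (e3 : g * (S * R1 * R2 + R1 * R2 + 9 * S * (R1 + R2)) = 144000 * (S * R1 * R2))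
    (e4 : g * (-(S * P1 * P2) - P1 * P2 + 25 * S * (P1 + P2)) = -86400 * (S * P1 * P2))
    (hsq : 1 + S ^ 2 + 2 * (R1 ^ 2 + R2 ^ 2) + (P1 ^ 2 + P2 ^ 2) ≤ g) :
    g = 175560 ∨ (g = 189000 ∧ S = -15 ∧ 7 ∣ R1 ∧ 7 ∣ R2 ∧ 7 ∣ P1 ∧ 7 ∣ P2) := by
  rcases le_total |R1| |R2| with hle | hle
  · rcases p1_core hg h16 h15 hS hR1 hR2 hS1 hR13 hR23 hsumR hsumP e3 e4 hsq hle with
      h | ⟨h, h', rfl, rfl, ⟨rfl, rfl⟩ | ⟨rfl, rfl⟩⟩
    · exact Or.inl h
    all_goals exact Or.inr ⟨h, h', by norm_num, by norm_num, by norm_num, by norm_num⟩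
  · rcases p1_core hg h16 h15 hS hR2 hR1 hS1 hR23 hR13 (by linarith) hsumP
      (by linear_combination e3) e4 (by linarith) hle with
      h | ⟨h, h', rfl, rfl, ⟨rfl, rfl⟩ | ⟨rfl, rfl⟩⟩
    · exact Or.inl h
    all_goals exact Or.inr ⟨h, h', by norm_num, by norm_num, by norm_num, by norm_num⟩

/-- The test for the secondary pattern. -/
def p3Ok (m : ℤ) : Bool :=
  let num := 675 * ((2 * m + 1) * (8 * m + 5))
  if m = 0 ∨ num % (m * m) ≠ 0 then true
  else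
    let g := 8 * (num / (m * m))
    if g ≤ 0 ∨ g % 16 ≠ 8 ∨ g % 15 ≠ 0 then true
    else decide (g ≤ 211000) && (List.range 84).all fun b =>
      let X := 4 * m + 2
      let Y := 8 * (b : ℤ) - 333
      let W := -1 - X - Y
      decide (g * (W * X * Y + 36 * X * Y + 4 * W * Y + 9 * W * X) ≠ 144000 * (W * X * Y))

theorem p3_box : ∀ a : Fin 109, ∀ b : Fin 100,
    p3Ok (100 * (a.val : ℤ) + (b.val : ℤ) - 5440) = true := by decide +kernel

/-- The secondary pattern. -/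
theorem p3_arith {g W X Y P : ℤ} (hg : 0 < g) (h16 : g % 16 = 8) (h15 : g % 15 = 0)
    (hX : X % 8 = 6) (hY : Y % 8 = 3) (hsum : 1 + W + X + Y = 0) (hP : P = 1 + 2 * X)
    (e3 : g * (W * X * Y + 36 * X * Y + 4 * W * Y + 9 * W * X) = 144000 * (W * X * Y))
    (e4 : g * (-(X * P) - 8 * P + 25 * X) = -86400 * (X * P))
    (hsq : 1 + 2 * X ^ 2 + 2 * Y ^ 2 + W ^ 2 + P ^ 2 ≤ g) : False := by
  obtain ⟨m, rfl⟩ : ∃ m, X = 4 * m + 2 := ⟨(X - 2) / 4, by omega⟩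
  subst hP
  have hm0 : m ≠ 0 := by omega
  have key : g * (m * m) = 8 * (675 * ((2 * m + 1) * (8 * m + 5))) := by linarith
  obtain ⟨h, rfl⟩ : ∃ h, g = 8 * h := ⟨g / 8, by omega⟩
  have key' : h * (m * m) = 675 * ((2 * m + 1) * (8 * m + 5)) := by linarith
  have hbd : -5400 ≤ m ∧ m ≤ 5400 := by
    have hco : IsCoprime (m ^ 2) (2 * m + 1) :=
      IsCoprime.pow_left (⟨-2, 1, by ring⟩ : IsCoprime m (2 * m + 1))
    have hd : m ^ 2 ∣ (2 * m + 1) * (675 * (8 * m + 5)) := ⟨h, by linarith [key']⟩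
    obtain ⟨c, hc⟩ := hco.dvd_of_dvd_mul_left hd
    have hc0 : c ≠ 0 := by rintro rfl; omega
    rcases lt_or_gt_of_ne hc0 with hc' | hc'
    · have : m ^ 2 * c ≤ m ^ 2 * (-1) := by nlinarith [sq_nonneg m]
      constructor <;> nlinarith
    · have : m ^ 2 * 1 ≤ m ^ 2 * c := by nlinarith [sq_nonneg m]
      constructor <;> nlinarith
  obtain ⟨a, b, hab⟩ : ∃ a : Fin 109, ∃ b : Fin 100, m = 100 * (a.val : ℤ) + (b.val : ℤ) - 5440 :=
    ⟨⟨((m + 5440) / 100).toNat, by omega⟩, ⟨((m + 5440) % 100).toNat, by omega⟩,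
      by simp only; omega⟩
  have hb := p3_box a b
  rw [← hab] at hb
  have hdiv : 675 * ((2 * m + 1) * (8 * m + 5)) / (m * m) = h := by
    rw [← key', Int.mul_ediv_cancel _ (mul_ne_zero hm0 hm0)]
  have hmod : 675 * ((2 * m + 1) * (8 * m + 5)) % (m * m) = 0 := by
    rw [← key']; exact Int.mul_emod_left _ _
  simp only [p3Ok, hdiv, hmod] at hb
  rw [if_neg (by simp [hm0]), if_neg (by push Not; exact ⟨hg, h16, h15⟩), Bool.and_eq_true,
    decide_eq_true_eq, List.all_eq_true] at hb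
  obtain ⟨hle, hall⟩ := hb
  have hYb : -325 ≤ Y ∧ Y ≤ 325 := by
    constructor <;> nlinarith [sq_nonneg W, sq_nonneg (4 * m + 2), sq_nonneg (1 + 2 * (4 * m + 2))]
  have hb2 := hall ((Y + 333) / 8).toNat (List.mem_range.2 (by omega))
  rw [decide_eq_true_eq] at hb2
  refine hb2 ?_
  have hY' : 8 * (((Y + 333) / 8).toNat : ℤ) - 333 = Y := by omega
  rw [hY', show -1 - (4 * m + 2) - Y = W by omega]
  exact e3

end CfsgLib.JankoCent
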