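import Cfsg.Agent.Lib.GL23.Comb
import Cfsg.Agent.Lib.JankoCent.Arith
import Mathlib.Data.Complex.Basic
import Mathlib.Data.Finset.Card
import Mathlib.Data.Fintype.EquivFin
import Mathlib.Data.Nat.Prime.Int

/-!
# The decomposition of the four exceptional functions
-/

set_option autoImplicit false
set_option maxHeartbeats 1000000

namespace CfsgLib.JankoCent

open CfsgLib.GL23 (exists_one_of_sum_sq exists_two_of_sum_sq sq_le_one_cases)

variable {ι : Type*} [Fintype ι] [DecidableEq ι]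

theorem sum_mul_support {R : Type*} [CommRing R] (f : ι → ℤ) (w : ι → R) (s : Finset ι)
    (h : ∀ i, i ∉ s → f i = 0) : ∑ i, (f i : R) * w i = ∑ i ∈ s, (f i : R) * w i :=
  (Finset.sum_subset (Finset.subset_univ s) fun i _ hi => by rw [h i hi]; simp).symm

theorem exists_three (f : ι → ℤ) (h : ∑ i, f i ^ 2 = 3) :
    ∃ a b c : ι, a ≠ b ∧ a ≠ c ∧ b ≠ c ∧ f a ^ 2 = 1 ∧ f b ^ 2 = 1 ∧ f c ^ 2 = 1 ∧
      ∀ i, i ≠ a → i ≠ b → i ≠ c → f i = 0 := by
  have hle : ∀ i, f i ^ 2 ≤ 3 := fun i =>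
    h ▸ Finset.single_le_sum (f := fun i => f i ^ 2) (fun j _ => sq_nonneg _) (Finset.mem_univ i)
  have h01 : ∀ i, f i ≠ 0 → f i ^ 2 = 1 := by
    intro i hi
    have h1 : f i ≤ 1 := by nlinarith [hle i]
    have h2 : -1 ≤ f i := by nlinarith [hle i]
    rcases (by omega : f i = 1 ∨ f i = -1) with e | e <;> rw [e] <;> norm_num
  have hcard : (Finset.univ.filter fun i => f i ≠ 0).card = 3 := by
    have : ∑ i, f i ^ 2 = ∑ i ∈ Finset.univ.filter (fun i => f i ≠ 0), (1 : ℤ) := by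
      rw [Finset.sum_filter]
      refine Finset.sum_congr rfl fun i _ => ?_
      split_ifs with hi
      · exact h01 i hi
      · simp [not_not.1 hi]
    rw [h] at this
    simp at this
    exact_mod_cast this.symm
  obtain ⟨a, b, c, hab, hac, hbc, habc⟩ := Finset.card_eq_three.1 hcard
  have hm : ∀ i, f i ≠ 0 ↔ (i = a ∨ i = b ∨ i = c) := fun i => by
    have := Finset.ext_iff.1 habc i
    simpa using this
  exact ⟨a, b, c, hab, hac, hbc, h01 a ((hm a).2 (by simp)), h01 b ((hm b).2 (by simp)),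
    h01 c ((hm c).2 (by simp)), fun i p q r => by
      by_contra hi
      rcases (hm i).1 hi with e | e | e
      exacts [p e, q e, r e]⟩

theorem mem_cases {f : ι → ℤ} {a b c : ι} (h : ∀ i, i ≠ a → i ≠ b → i ≠ c → f i = 0) {i : ι}
    (hi : f i ≠ 0) : i = a ∨ i = b ∨ i = c := by
  by_contra! hc
  exact hi (h i hc.1 hc.2.1 hc.2.2)

/-- The fixed constituent of the two conjugate functions. -/
theorem exists_split (σ : ι → ι) (hσ : Function.Bijective σ) (m n : ι → ℤ)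
    (hmσ : ∀ i, m (σ i) = n i) (hnσ : ∀ i, n (σ i) = m i)
    (hmm : ∑ i, m i ^ 2 = 3) (hmn : ∑ i, m i * n i = 1) :
    ∃ S r1 r2 : ι, S ≠ r1 ∧ S ≠ r2 ∧ r1 ≠ r2 ∧ σ S = S ∧ σ r1 ≠ r1 ∧ σ r1 ≠ r2 ∧ σ r2 ≠ r1 ∧
      σ r2 ≠ r2 ∧ σ r1 ≠ S ∧ σ r2 ≠ S ∧ m S ^ 2 = 1 ∧ n S = m S ∧
      m r1 ^ 2 = 1 ∧ n r1 = 0 ∧ m r2 ^ 2 = 1 ∧ n r2 = 0 ∧ m (σ r1) = 0 ∧ m (σ r2) = 0 ∧
      (∀ i, i ≠ S → i ≠ r1 → i ≠ r2 → m i = 0) ∧
      (∀ i, i ≠ S → i ≠ σ r1 → i ≠ σ r2 → n i = 0) := by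
  obtain ⟨a, b, c, hab, hac, hbc, ha, hb, hc, hrest⟩ := exists_three m hmm
  have hsum : m a * n a + (m b * n b + m c * n c) = 1 := by
    have e := sum_mul_support m n {a, b, c} (fun i hi => by
      simp only [Finset.mem_insert, Finset.mem_singleton, not_or] at hi
      exact hrest i hi.1 hi.2.1 hi.2.2)
    simp only [Int.cast_eq, hmn] at e
    rw [Finset.sum_insert (by simp [hab, hac]), Finset.sum_pair hbc] at e
    linarith
  have hnle : ∀ i, n i ^ 2 ≤ 1 := by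
    intro i
    rw [← hmσ]
    by_cases h0 : m (σ i) = 0
    · rw [h0]; norm_num
    · rcases mem_cases hrest h0 with e | e | e <;> rw [e] <;> linarith
  have hp : ∀ i, m i ^ 2 = 1 → m i * n i = -1 ∨ m i * n i = 0 ∨ m i * n i = 1 := fun i hi =>
    sq_le_one_cases (by rw [mul_pow, hi, one_mul]; exact hnle i)
  have hinv : ∀ i, m (σ i) * n (σ i) = m i * n i := fun i => by rw [hmσ, hnσ, mul_comm]
  have core : ∀ x y w : ι, x ≠ y → x ≠ w → y ≠ w → m x ^ 2 = 1 →
      (∀ i, i ≠ x → i ≠ y → i ≠ w → m i = 0) →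
      m x * n x = -1 → m y * n y = 1 → m w * n w = 1 → False := by
    intro x y w _ _ _ hx hr px py pw
    have h0 : m (σ x) ≠ 0 := fun h => by have := hinv x; rw [h, px] at this; simp at this
    have hx' : σ x = x := by
      rcases mem_cases hr h0 with e | e | e
      · exact e
      all_goals
        have := hinv x
        rw [e, px] at this
        omega
    have hnx : n x = m x := by rw [← hmσ, hx']
    rw [hnx, ← sq, hx] at px
    omega
  have fin : ∀ x y w : ι, x ≠ y → x ≠ w → y ≠ w → m x ^ 2 = 1 → m y ^ 2 = 1 → m w ^ 2 = 1 →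
      (∀ i, i ≠ x → i ≠ y → i ≠ w → m i = 0) →
      m x * n x = 1 → m y * n y = 0 → m w * n w = 0 →
      ∃ S r1 r2 : ι, S ≠ r1 ∧ S ≠ r2 ∧ r1 ≠ r2 ∧ σ S = S ∧ σ r1 ≠ r1 ∧ σ r1 ≠ r2 ∧ σ r2 ≠ r1 ∧
        σ r2 ≠ r2 ∧ σ r1 ≠ S ∧ σ r2 ≠ S ∧ m S ^ 2 = 1 ∧ n S = m S ∧
        m r1 ^ 2 = 1 ∧ n r1 = 0 ∧ m r2 ^ 2 = 1 ∧ n r2 = 0 ∧ m (σ r1) = 0 ∧ m (σ r2) = 0 ∧
        (∀ i, i ≠ S → i ≠ r1 → i ≠ r2 → m i = 0) ∧
        (∀ i, i ≠ S → i ≠ σ r1 → i ≠ σ r2 → n i = 0) := by
    intro x y w hxy hxw hyw hx hy hw hr px py pw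
    have hny : n y = 0 := (mul_eq_zero.1 py).resolve_left (fun h => by rw [h] at hy; simp at hy)
    have hnw : n w = 0 := (mul_eq_zero.1 pw).resolve_left (fun h => by rw [h] at hw; simp at hw)
    have h0 : m (σ x) ≠ 0 := fun h => by have := hinv x; rw [h, px] at this; simp at this
    have hx' : σ x = x := by
      rcases mem_cases hr h0 with e | e | e
      · exact e
      all_goals
        have := hinv x
        rw [e, px] at this
        omega
    have hsy : m (σ y) = 0 := by rw [hmσ, hny]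
    have hsw : m (σ w) = 0 := by rw [hmσ, hnw]
    refine ⟨x, y, w, hxy, hxw, hyw, hx', ?_, ?_, ?_, ?_, ?_, ?_, hx, by rw [← hmσ, hx'],
      hy, hny, hw, hnw, hsy, hsw, hr, ?_⟩
    · intro h; rw [h] at hsy; rw [hsy] at hy; simp at hy
    · intro h; rw [h] at hsy; rw [hsy] at hw; simp at hw
    · intro h; rw [h] at hsw; rw [hsw] at hy; simp at hy
    · intro h; rw [h] at hsw; rw [hsw] at hw; simp at hw
    · intro h; exact hxy (hσ.1 (hx'.trans h.symm))
    · intro h; exact hxw (hσ.1 (hx'.trans h.symm))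
    · intro i p q r
      obtain ⟨j, rfl⟩ := hσ.2 i
      rw [hnσ]
      refine hr j ?_ ?_ ?_
      · rintro rfl; exact p hx'
      · rintro rfl; exact q rfl
      · rintro rfl; exact r rfl
  rcases hp a ha with pa | pa | pa <;> rcases hp b hb with pb | pb | pb <;>
    rcases hp c hc with pc | pc | pc <;> rw [pa, pb, pc] at hsum <;>
    first
      | omega
      | exact (core a b c hab hac hbc ha hrest pa pb pc).elim
      | exact (core b a c hab.symm hbc hac hb (fun i p q r => hrest i q p r) pb pa pc).elim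
      | exact (core c a b hac.symm hbc.symm hab hc (fun i p q r => hrest i q r p) pc pa pb).elim
      | exact fin a b c hab hac hbc ha hb hc hrest pa pb pc
      | exact fin b a c hab.symm hbc hac hb ha hc (fun i p q r => hrest i q p r) pb pa pc
      | exact fin c a b hac.symm hbc.symm hab hc ha hb (fun i p q r => hrest i q r p) pc pa pb

theorem one_cases {x : ℤ} (h : x ^ 2 = 1) : x = 1 ∨ x = -1 := sq_eq_one_iff.1 h

theorem mul_sq_cancel {s : ℤ} (hs : s ^ 2 = 1) (d : ℤ) : (s * d) ^ 2 = d ^ 2 := by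
  rw [mul_pow, hs, one_mul]

theorem signed_congr {s k d : ℤ} (hs : s ^ 2 = 1) (h : (8 : ℤ) ∣ d - k * s) :
    (s * d) % 8 = k % 8 := by
  obtain ⟨q, hq⟩ := h
  have : s * d = k + 8 * (s * q) := by linear_combination s * hq + k * hs
  omega

theorem signed_div {s d : ℤ} (hs : s ^ 2 = 1) (r : ℚ) :
    (s : ℚ) * (r / (d : ℚ)) = r / ((s * d : ℤ) : ℚ) := by
  rcases one_cases hs with h | h <;> subst h <;> push_cast <;> ring

/-- What remains in the spurious case. -/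
def Spurious (P : ι) (z d m1 m3 : ι → ℤ) : Prop :=
  ∃ (S a b : ι), [P, S, a, b].Nodup ∧ 1 ≤ d a ∧ ∀ w : ι → ℂ, w P = 1 →
    (∀ i, i ≠ P → (7 : ℤ) ∣ d i → w i = 0) → ∑ i, (m1 i : ℂ) * w i = 0 →
    1 + ∑ i, (m3 i : ℂ) * w i = 0 →
      w a = w b ∧ w S = 1 ∧ ∑ i, ((z i : ℂ) ^ 2 / (d i : ℂ)) * w i = 16 / 15 + 32 * w a / d a

/-- The data of the decomposition. -/
structure Data (g : ℤ) (σ : ι → ι) (P : ι) (z d m1 m3 m3' m4 : ι → ℤ) : Prop where
  hσ : Function.Bijective σ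
  hσP : σ P = P
  m1P : m1 P = 0
  m3P : m3 P = 0
  m4P : m4 P = 0
  m1σ : ∀ i, m1 (σ i) = m1 i
  m4σ : ∀ i, m4 (σ i) = m4 i
  m3σ : ∀ i, m3 (σ i) = m3' i
  m3'σ : ∀ i, m3' (σ i) = m3 i
  hz : ∀ i, i ≠ P → z i = 4 * m1 i + 3 * (m3 i + m3' i) + 5 * m4 i
  hzP : z P = 1
  hdP : d P = 1
  dpos : ∀ i, 1 ≤ d i
  dσ : ∀ i, d (σ i) = d i
  cong : ∀ i, (8 : ℤ) ∣ d i - z i
  scal : ∀ i, i ≠ P → z i ^ 2 ≠ d i ^ 2
  h11 : ∑ i, m1 i ^ 2 = 2
  h33 : ∑ i, m3 i ^ 2 = 3
  h44 : ∑ i, m4 i ^ 2 = 3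
  h33' : ∑ i, m3 i * m3' i = 1
  h13 : ∑ i, m1 i * m3 i = 0
  h14 : ∑ i, m1 i * m4 i = 0
  h34 : ∑ i, m3 i * m4 i = -1
  deg1 : ∑ i, m1 i * d i = 0
  deg3 : ∑ i, m3 i * d i = -1
  deg4 : ∑ i, m4 i * d i = 1
  L1 : ∑ i, (m1 i : ℚ) * ((z i : ℚ) ^ 2 / d i) = 0
  L3 : (g : ℚ) * (1 + ∑ i, (m3 i : ℚ) * ((z i : ℚ) ^ 2 / d i)) = 144000
  L4 : (g : ℚ) * (-1 + ∑ i, (m4 i : ℚ) * ((z i : ℚ) ^ 2 / d i)) = -86400
  hg : 0 < g
  h16 : g % 16 = 8
  h15 : g % 15 = 0
  sq : ∑ i, d i ^ 2 = g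

theorem five_distinct {σ : ι → ι} (hσ : Function.Bijective σ) {S r1 r2 : ι} (h1 : S ≠ r1)
    (h2 : S ≠ r2) (h3 : r1 ≠ r2) (h4 : σ r1 ≠ r1) (h5 : σ r1 ≠ r2) (h6 : σ r2 ≠ r1)
    (h7 : σ r2 ≠ r2) (h8 : σ r1 ≠ S) (h9 : σ r2 ≠ S) {R : Type*} [AddCommMonoid R] (F : ι → R) :
    ∑ i ∈ ({S, r1, r2, σ r1, σ r2} : Finset ι), F i =
      F S + (F r1 + (F r2 + (F (σ r1) + F (σ r2)))) := by
  rw [Finset.sum_insert (by simp [h1, h2, h8.symm, h9.symm]),
    Finset.sum_insert (by simp [h3, h4.symm, h6.symm]),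
    Finset.sum_insert (by simp [h5.symm, h7.symm]), Finset.sum_pair (fun h => h3 (hσ.1 h))]

set_option maxHeartbeats 2000000 in
/-- The decomposition leaves only two possible orders. -/
theorem decomposition {g : ℤ} {σ : ι → ι} {P : ι} {z d m1 m3 m3' m4 : ι → ℤ}
    (H : Data g σ P z d m1 m3 m3' m4) :
    g = 175560 ∨ (g = 189000 ∧ Spurious P z d m1 m3) := by
  obtain ⟨S, r1, r2, hS1, hS2, h12, hσS, n11, n12, n21, n22, n1S, n2S, sS, hnS, s1, hn1, s2, hn2,
    hm1', hm2', hrest3, hrest3'⟩ := exists_split σ H.hσ m3 m3' H.m3σ H.m3'σ H.h33 H.h33'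
  have five : ∀ {R : Type} [AddCommMonoid R] (F : ι → R),
      ∑ i ∈ ({S, r1, r2, σ r1, σ r2} : Finset ι), F i =
        F S + (F r1 + (F r2 + (F (σ r1) + F (σ r2)))) :=
    fun F => five_distinct H.hσ hS1 hS2 h12 n11 n12 n21 n22 n1S n2S F
  have e3 : ∀ {R : Type} [CommRing R] (w : ι → R), ∑ i, (m3 i : R) * w i =
      (m3 S : R) * w S + ((m3 r1 : R) * w r1 + (m3 r2 : R) * w r2) := by
    intro R _ w
    rw [sum_mul_support m3 w {S, r1, r2} (fun i hi => by
      simp only [Finset.mem_insert, Finset.mem_singleton, not_or] at hi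
      exact hrest3 i hi.1 hi.2.1 hi.2.2), Finset.sum_insert (by simp [hS1, hS2]),
      Finset.sum_pair h12]
  -- the first function avoids the constituents of the conjugate pair
  have d13 := e3 (fun i => m1 i)
  simp only [Int.cast_eq] at d13
  rw [Finset.sum_congr rfl (fun i _ => mul_comm _ _), H.h13] at d13
  have b1 := Finset.sum_le_univ_sum_of_nonneg (fun i => sq_nonneg (m1 i))
    (s := {S, r1, r2, σ r1, σ r2})
  rw [five, H.h11, H.m1σ, H.m1σ] at b1
  have z1 : m1 S = 0 ∧ m1 r1 = 0 ∧ m1 r2 = 0 := by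
    have a1 := sq_nonneg (m1 S)
    have a2 := sq_nonneg (m1 r1)
    have a3 := sq_nonneg (m1 r2)
    rcases sq_le_one_cases (by linarith : m1 r1 ^ 2 ≤ 1) with u | u | u <;>
      rcases sq_le_one_cases (by linarith : m1 r2 ^ 2 ≤ 1) with v | v | v <;>
      rw [u, v] at d13 b1 <;> norm_num at b1 <;>
      rcases one_cases sS with p | p <;> rcases one_cases s1 with q | q <;>
      rcases one_cases s2 with r | r <;> rw [p, q, r] at d13 <;>
      first
        | omega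
        | (have h0 : m1 S = 0 := by nlinarith
           rw [h0] at d13; omega)
  obtain ⟨a, -, b, -, hab, sa, sb, hrest1⟩ := exists_two_of_sum_sq Finset.univ m1 H.h11
  have hrest1' : ∀ i, i ≠ a → i ≠ b → m1 i = 0 := fun i => hrest1 i (Finset.mem_univ i)
  have e1 : ∀ {R : Type} [CommRing R] (w : ι → R),
      ∑ i, (m1 i : R) * w i = (m1 a : R) * w a + (m1 b : R) * w b :=
    fun w => CfsgLib.GL23.sum_mul_two m1 w hab hrest1'
  have f1 := e1 d
  simp only [Int.cast_eq, H.deg1] at f1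
  have hsign : m1 b = -m1 a ∧ d a = d b := by
    have := H.dpos a
    have := H.dpos b
    rcases sa with u | u <;> rcases sb with v | v <;> rw [u, v] at f1 ⊢ <;> omega
  have sa2 : m1 a ^ 2 = 1 := sq_eq_one_iff.2 sa
  have hne1 : ∀ x, m1 x = 0 → a ≠ x ∧ b ≠ x := fun x hx => by
    constructor <;> rintro rfl
    · rw [hx] at sa2; simp at sa2
    · rw [hx] at hsign; rw [show m1 a = 0 by omega] at sa2; simp at sa2
  -- the fourth function on the constituents of the conjugate pair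
  have d34 := e3 (fun i => m4 i)
  simp only [Int.cast_eq, H.h34] at d34
  have b4 := Finset.sum_le_univ_sum_of_nonneg (fun i => sq_nonneg (m4 i))
    (s := {S, r1, r2, σ r1, σ r2})
  rw [five, H.h44, H.m4σ, H.m4σ] at b4
  have z4 : (m4 S = -m3 S ∧ m4 r1 = 0 ∧ m4 r2 = 0) ∨ (m4 S = 0 ∧ m4 r1 = -m3 r1 ∧ m4 r2 = 0) ∨
      (m4 S = 0 ∧ m4 r1 = 0 ∧ m4 r2 = -m3 r2) := by
    have a1 := sq_nonneg (m4 S)
    have a2 := sq_nonneg (m4 r1)
    have a3 := sq_nonneg (m4 r2)
    rcases sq_le_one_cases (by linarith : m4 r1 ^ 2 ≤ 1) with u | u | u <;>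
      rcases sq_le_one_cases (by linarith : m4 r2 ^ 2 ≤ 1) with v | v | v <;>
      rw [u, v] at d34 b4 ⊢ <;> norm_num at b4 <;>
      rcases one_cases sS with p | p <;> rcases one_cases s1 with q | q <;>
      rcases one_cases s2 with r | r <;> rw [p, q, r] at d34 ⊢ <;>
      first
        | omega
        | (have hl : m4 S ^ 2 ≤ 1 := by linarith
           rcases sq_le_one_cases hl with t | t | t <;> rw [t] at d34 ⊢ <;> omega)
  have zS : z S = 6 * m3 S + 5 * m4 S := by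
    rw [H.hz S (fun h => by rw [h, H.m3P] at sS; simp at sS), z1.1, hnS]; ring
  have hSP : S ≠ P := fun h => by rw [h, H.m3P] at sS; simp at sS
  have h1P : r1 ≠ P := fun h => by rw [h, H.m3P] at s1; simp at s1
  have h2P : r2 ≠ P := fun h => by rw [h, H.m3P] at s2; simp at s2
  have hσ1P : σ r1 ≠ P := fun h => h1P (H.hσ.1 (h.trans H.hσP.symm))
  have hσ2P : σ r2 ≠ P := fun h => h2P (H.hσ.1 (h.trans H.hσP.symm))
  have zr : ∀ r, r ≠ P → m1 r = 0 → m3' r = 0 → z r = 3 * m3 r + 5 * m4 r := fun r hr u v => by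
    rw [H.hz r hr, u, v]; ring
  have hgq : (g : ℚ) ≠ 0 := Int.cast_ne_zero.2 H.hg.ne'
  have deg3' := e3 d
  simp only [Int.cast_eq, H.deg3] at deg3'
  rcases z4 with ⟨qS, q1, q2⟩ | hP3
  · -- the main pattern
    have hp4 : ∑ i ∈ Finset.univ.erase S, m4 i ^ 2 = 2 := by
      have := Finset.add_sum_erase Finset.univ (fun i => m4 i ^ 2) (Finset.mem_univ S)
      rw [H.h44, qS, neg_sq, sS] at this
      linarith
    obtain ⟨p1, hp1, p2, hp2, hp12, sp1, sp2, hrest4⟩ := exists_two_of_sum_sq _ m4 hp4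
    have hp1S := (Finset.mem_erase.1 hp1).1
    have hp2S := (Finset.mem_erase.1 hp2).1
    have hp1P : p1 ≠ P := fun h => by rw [h, H.m4P] at sp1; omega
    have hp2P : p2 ≠ P := fun h => by rw [h, H.m4P] at sp2; omega
    have hrest4' : ∀ i, i ≠ S → i ≠ p1 → i ≠ p2 → m4 i = 0 := fun i p =>
      hrest4 i (Finset.mem_erase.2 ⟨p, Finset.mem_univ i⟩)
    have e4 : ∀ {R : Type} [CommRing R] (w : ι → R), ∑ i, (m4 i : R) * w i =
        (m4 S : R) * w S + ((m4 p1 : R) * w p1 + (m4 p2 : R) * w p2) := by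
      intro R _ w
      rw [sum_mul_support m4 w {S, p1, p2} (fun i hi => by
        simp only [Finset.mem_insert, Finset.mem_singleton, not_or] at hi
        exact hrest4' i hi.1 hi.2.1 hi.2.2), Finset.sum_insert (by simp [hp1S.symm, hp2S.symm]),
        Finset.sum_pair hp12]
    have d14 := e4 (fun i => m1 i)
    simp only [Int.cast_eq] at d14
    rw [Finset.sum_congr rfl (fun i _ => mul_comm _ _), H.h14, z1.1] at d14
    have hne3 : ∀ r, m4 r = 0 → p1 ≠ r ∧ p2 ≠ r := fun r hr => by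
      constructor <;> rintro rfl <;> omega
    obtain ⟨p1r1, p2r1⟩ := hne3 r1 q1
    obtain ⟨p1r2, p2r2⟩ := hne3 r2 q2
    obtain ⟨p1σ1, p2σ1⟩ := hne3 (σ r1) (by rw [H.m4σ, q1])
    obtain ⟨p1σ2, p2σ2⟩ := hne3 (σ r2) (by rw [H.m4σ, q2])
    have hzp : ∀ p, p ≠ P → p ≠ S → p ≠ r1 → p ≠ r2 → p ≠ σ r1 → p ≠ σ r2 →
        z p = 4 * m1 p + 5 * m4 p := fun p h0 h1 h2 h3 h4 h5 => by
      rw [H.hz p h0, hrest3 p h1 h2 h3, hrest3' p h1 h4 h5]; ring
    have zp1 := hzp p1 hp1P hp1S p1r1 p1r2 p1σ1 p1σ2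
    have zp2 := hzp p2 hp2P hp2S p2r1 p2r2 p2σ1 p2σ2
    by_cases hov : m1 p1 = 0
    swap
    · exfalso
      have hp2' : m1 p2 ≠ 0 := by
        intro h
        rw [h] at d14
        rcases sp1 with u | u <;> rw [u] at d14 <;> omega
      have q : ∀ p, m1 p ≠ 0 → p = a ∨ p = b := fun p hp => by
        by_contra! hc; exact hp (hrest1' p hc.1 hc.2)
      obtain ⟨hm, hd⟩ : m1 p2 = -m1 p1 ∧ d p1 = d p2 := by
        rcases q p1 hov with rfl | rfl <;> rcases q p2 hp2' with rfl | rfl <;>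
          first
            | exact absurd rfl hp12
            | exact hsign
            | exact ⟨by omega, hsign.2.symm⟩
      have hf : m4 p2 = m4 p1 := by
        rw [hm] at d14
        have : m1 p1 * (m4 p1 - m4 p2) = 0 := by linarith
        rcases mul_eq_zero.1 this with h | h
        · exact absurd h hov
        · omega
      have hrest : ∀ i, i ≠ p1 → i ≠ p2 → m1 i = 0 := by
        intro i h h'
        rcases q p1 hov with rfl | rfl <;> rcases q p2 hp2' with rfl | rfl <;>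
          first
            | exact absurd rfl hp12
            | exact hrest1' i h h'
            | exact hrest1' i h' h
      have hL := CfsgLib.GL23.sum_mul_two m1 (fun i => (z i : ℚ) ^ 2 / d i) hp12 hrest
      rw [H.L1, hm, hd] at hL
      have hd0 : (d p2 : ℚ) ≠ 0 := Int.cast_ne_zero.2 (by have := H.dpos p2; omega)
      push_cast at hL
      field_simp at hL
      have hz2 : (z p1 : ℚ) ^ 2 = (z p2 : ℚ) ^ 2 := by
        refine mul_left_cancel₀ (Int.cast_ne_zero.2 hov) ?_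
        linear_combination -hL
      have hz3 : z p1 ^ 2 = z p2 ^ 2 := by exact_mod_cast hz2
      rw [zp1, zp2, hm, hf] at hz3
      have : m1 p1 * m4 p1 = 0 := by linarith
      rcases mul_eq_zero.1 this with h | h
      · exact hov h
      · omega
    have hov2 : m1 p2 = 0 := by
      rw [hov] at d14
      rcases sp2 with u | u <;> rw [u] at d14 <;> omega
    rw [hov] at zp1
    rw [hov2] at zp2
    obtain ⟨aS, bS⟩ := hne1 S z1.1
    obtain ⟨a1, b1'⟩ := hne1 r1 z1.2.1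
    obtain ⟨a2, b2'⟩ := hne1 r2 z1.2.2
    obtain ⟨aσ1, bσ1⟩ := hne1 (σ r1) (by rw [H.m1σ, z1.2.1])
    obtain ⟨aσ2, bσ2⟩ := hne1 (σ r2) (by rw [H.m1σ, z1.2.2])
    obtain ⟨ap1, bp1⟩ := hne1 p1 hov
    obtain ⟨ap2, bp2⟩ := hne1 p2 hov2
    obtain ⟨aP, bP⟩ := hne1 P H.m1P
    have zS' : z S = m3 S := by rw [zS, qS]; ring
    have zr1 : z r1 = 3 * m3 r1 := by rw [zr r1 h1P z1.2.1 hn1, q1]; ring
    have zr2 : z r2 = 3 * m3 r2 := by rw [zr r2 h2P z1.2.2 hn2, q2]; ring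
    have f4 := e4 d
    simp only [Int.cast_eq, H.deg4, qS] at f4
    have hT : ∀ {R : Type} [AddCommMonoid R] (F : ι → R),
        ∑ i ∈ ({P, a, b, p1, p2} ∪ {S, r1, r2, σ r1, σ r2} : Finset ι), F i =
        F P + (F a + (F b + (F p1 + F p2))) + (F S + (F r1 + (F r2 + (F (σ r1) + F (σ r2))))) := by
      intro R _ F
      rw [Finset.sum_union, five, Finset.sum_insert (by simp [aP.symm, bP.symm, hp1P.symm, hp2P.symm]),
        Finset.sum_insert (by simp [hab, ap1, ap2]), Finset.sum_insert (by simp [bp1, bp2]),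
        Finset.sum_pair hp12]
      simp [Finset.disjoint_left, hSP.symm, h1P.symm, h2P.symm, hσ1P.symm, hσ2P.symm, aS, a1, a2,
        aσ1, aσ2, bS, b1', b2', bσ1, bσ2, hp1S, p1r1, p1r2, p1σ1, p1σ2, hp2S, p2r1, p2r2, p2σ1,
        p2σ2]
    have hsq := Finset.sum_le_univ_sum_of_nonneg (fun i => sq_nonneg (d i))
      (s := {P, a, b, p1, p2} ∪ {S, r1, r2, σ r1, σ r2})
    rw [hT, H.sq, H.hdP, H.dσ, H.dσ] at hsq
    have sp1' : m4 p1 ^ 2 = 1 := sq_eq_one_iff.2 sp1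
    have sp2' : m4 p2 ^ 2 = 1 := sq_eq_one_iff.2 sp2
    have cS := signed_congr (k := 1) sS (by have := H.cong S; rw [zS'] at this; simpa using this)
    have c1 := signed_congr (k := 3) s1 (by have := H.cong r1; rwa [zr1] at this)
    have c2 := signed_congr (k := 3) s2 (by have := H.cong r2; rwa [zr2] at this)
    have cp1 := signed_congr (k := 5) sp1' (by have := H.cong p1; rw [zp1] at this; simpa using this)
    have cp2 := signed_congr (k := 5) sp2' (by have := H.cong p2; rw [zp2] at this; simpa using this)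
    norm_num at cS c1 c2 cp1 cp2
    have nS : m3 S * d S ≠ 1 := fun h => H.scal S hSP (by
      rw [zS', sS]; rw [← mul_sq_cancel sS (d S), h]; norm_num)
    have n1 : m3 r1 * d r1 ≠ 3 := fun h => H.scal r1 h1P (by
      rw [zr1, mul_pow, s1, ← mul_sq_cancel s1 (d r1), h]; norm_num)
    have n2 : m3 r2 * d r2 ≠ 3 := fun h => H.scal r2 h2P (by
      rw [zr2, mul_pow, s2, ← mul_sq_cancel s2 (d r2), h]; norm_num)
    have L3 := H.L3
    have L4 := H.L4
    rw [e3] at L3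
    rw [e4, qS] at L4
    have zS2 : (z S : ℚ) ^ 2 = 1 := by exact_mod_cast (zS' ▸ sS)
    have zr12 : (z r1 : ℚ) ^ 2 = 9 := by
      exact_mod_cast (show z r1 ^ 2 = 9 by rw [zr1, mul_pow, s1]; norm_num)
    have zr22 : (z r2 : ℚ) ^ 2 = 9 := by
      exact_mod_cast (show z r2 ^ 2 = 9 by rw [zr2, mul_pow, s2]; norm_num)
    have zp12 : (z p1 : ℚ) ^ 2 = 25 := by
      exact_mod_cast (show z p1 ^ 2 = 25 by rw [zp1, mul_zero, zero_add, mul_pow, sp1']; norm_num)
    have zp22 : (z p2 : ℚ) ^ 2 = 25 := by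
      exact_mod_cast (show z p2 ^ 2 = 25 by rw [zp2, mul_zero, zero_add, mul_pow, sp2']; norm_num)
    push_cast at L4
    rw [zS2, zr12, zr22, signed_div sS, signed_div s1, signed_div s2] at L3
    rw [zS2, zp12, zp22, neg_mul, signed_div sS, signed_div sp1', signed_div sp2'] at L4
    have dsum := deg3'
    have psum : m4 p1 * d p1 + m4 p2 * d p2 = 1 + m3 S * d S := by linarith
    have sS' := mul_sq_cancel sS (d S)
    have s1' := mul_sq_cancel s1 (d r1)
    have s2' := mul_sq_cancel s2 (d r2)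
    have sp1'' := mul_sq_cancel sp1' (d p1)
    have sp2'' := mul_sq_cancel sp2' (d p2)
    have dA := H.dpos a
    have main := p1_arith (g := g) (S := m3 S * d S) (R1 := m3 r1 * d r1) (R2 := m3 r2 * d r2)
      (P1 := m4 p1 * d p1) (P2 := m4 p2 * d p2) H.hg H.h16 H.h15 cS c1 c2 nS n1 n2
      (by linarith) psum
    generalize hX : m3 S * d S = X at main L3 L4 cS sS'
    generalize hY1 : m3 r1 * d r1 = Y1 at main L3 c1 s1'
    generalize hY2 : m3 r2 * d r2 = Y2 at main L3 c2 s2'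
    generalize hQ1 : m4 p1 * d p1 = Q1 at main L4 cp1 sp1''
    generalize hQ2 : m4 p2 * d p2 = Q2 at main L4 cp2 sp2''
    have x0 : (X : ℚ) ≠ 0 := Int.cast_ne_zero.2 (by omega)
    have y1 : (Y1 : ℚ) ≠ 0 := Int.cast_ne_zero.2 (by omega)
    have y2 : (Y2 : ℚ) ≠ 0 := Int.cast_ne_zero.2 (by omega)
    have k1 : (Q1 : ℚ) ≠ 0 := Int.cast_ne_zero.2 (by omega)
    have k2 : (Q2 : ℚ) ≠ 0 := Int.cast_ne_zero.2 (by omega)
    have E3 : g * (X * Y1 * Y2 + Y1 * Y2 + 9 * X * (Y1 + Y2)) = 144000 * (X * Y1 * Y2) := by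
      have : (g : ℚ) * (X * Y1 * Y2 + Y1 * Y2 + 9 * X * (Y1 + Y2)) =
          144000 * (X * Y1 * Y2) := by
        field_simp at L3
        linear_combination L3
      exact_mod_cast this
    have E4 : g * (-(X * Q1 * Q2) - Q1 * Q2 + 25 * X * (Q1 + Q2)) =
        -86400 * (X * Q1 * Q2) := by
      have : (g : ℚ) * (-(X * Q1 * Q2) - Q1 * Q2 + 25 * X * (Q1 + Q2)) =
          -86400 * (X * Q1 * Q2) := by
        field_simp at L4
        linear_combination L4
      exact_mod_cast this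
    rcases main E3 E4 (by nlinarith [sq_nonneg (d a), sq_nonneg (d b)]) with
      h | ⟨h, hX15, h71, h72, h7p1, h7p2⟩
    · exact Or.inl h
    refine Or.inr ⟨h, S, a, b, ?_, dA, ?_⟩
    · simp [hSP.symm, aP.symm, bP.symm, aS.symm, bS.symm, hab]
    intro w wP wv w1 w3
    have hseven : Prime (7 : ℤ) := Nat.prime_iff_prime_int.1 (by decide : Nat.Prime 7)
    have div7 : ∀ {s k X : ℤ}, s ^ 2 = 1 → s * k = X → (7 : ℤ) ∣ X → (7 : ℤ) ∣ k := by
      intro s k X hs he hx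
      rw [show k = s * X by rw [← he, ← mul_assoc, ← sq, hs, one_mul]]
      exact Dvd.dvd.mul_left hx _
    have w_r1 : w r1 = 0 := wv r1 h1P (div7 s1 hY1 h71)
    have w_r2 : w r2 = 0 := wv r2 h2P (div7 s2 hY2 h72)
    have w_σ1 : w (σ r1) = 0 := wv _ hσ1P (by rw [H.dσ]; exact div7 s1 hY1 h71)
    have w_σ2 : w (σ r2) = 0 := wv _ hσ2P (by rw [H.dσ]; exact div7 s2 hY2 h72)
    have w_p1 : w p1 = 0 := wv p1 hp1P (div7 sp1' hQ1 h7p1)
    have w_p2 : w p2 = 0 := wv p2 hp2P (div7 sp2' hQ2 h7p2)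
    rw [e1, hsign.1] at w1
    rw [e3, w_r1, w_r2] at w3
    push_cast at w1
    have hwab : w a = w b := by
      have : (m1 a : ℂ) * (w a - w b) = 0 := by linear_combination w1
      rcases mul_eq_zero.1 this with h | h
      · rw [Int.cast_eq_zero] at h; rw [h] at sa2; simp at sa2
      · exact sub_eq_zero.1 h
    have hS3 : m3 S = -1 ∧ d S = 15 := by
      have := H.dpos S
      rw [hX15] at hX
      rcases one_cases sS with u | u <;> rw [u] at hX ⊢ <;> omega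
    have hwS : w S = 1 := by
      rw [hS3.1] at w3
      push_cast at w3
      linear_combination -w3
    refine ⟨hwab, hwS, ?_⟩
    rw [← Finset.sum_subset (Finset.subset_univ ({P, a, b, p1, p2} ∪ {S, r1, r2, σ r1, σ r2})), hT,
      w_r1, w_r2, w_σ1, w_σ2, w_p1, w_p2, wP, hwS, H.hzP, H.hdP, ← hwab, ← hsign.2, hS3.2, zS', hS3.1]
    · have za : ∀ x, x ≠ P → x ≠ S → x ≠ r1 → x ≠ r2 → x ≠ σ r1 → x ≠ σ r2 → x ≠ p1 → x ≠ p2 →
          z x = 4 * m1 x := fun x h0 h1 h2 h3 h4 h5 h6 h7 => by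
        rw [H.hz x h0, hrest3 x h1 h2 h3, hrest3' x h1 h4 h5, hrest4' x h1 h6 h7]; ring
      rw [za a aP aS a1 a2 aσ1 aσ2 ap1 ap2, za b bP bS b1' b2' bσ1 bσ2 bp1 bp2, hsign.1]
      have sa3 : (m1 a : ℂ) ^ 2 = 1 := by exact_mod_cast sa2
      push_cast
      linear_combination (32 * w a / (d a : ℂ)) * sa3
    · intro i _ hi
      simp only [Finset.mem_union, Finset.mem_insert, Finset.mem_singleton, not_or] at hi
      obtain ⟨⟨i0, ia, ib, ip1, ip2⟩, iS, i1, i2, iσ1, iσ2⟩ := hi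
      rw [H.hz i i0, hrest3 i iS i1 i2, hrest3' i iS iσ1 iσ2, hrest4' i iS ip1 ip2,
        hrest1' i ia ib]
      simp
  · -- the secondary pattern
    exfalso
    obtain ⟨r, r', hr, hr', hS, hS', hrr', nrr, nrr', nr'r, nr'r', nrS, nr'S, sr, sr', hnr, hnr',
      z1r, z1r', qr, qr', e3', hr3, hr3', deg⟩ :
        ∃ r r', r ≠ P ∧ r' ≠ P ∧ S ≠ r ∧ S ≠ r' ∧ r ≠ r' ∧ σ r ≠ r ∧ σ r ≠ r' ∧ σ r' ≠ r ∧
          σ r' ≠ r' ∧ σ r ≠ S ∧ σ r' ≠ S ∧ m3 r ^ 2 = 1 ∧ m3 r' ^ 2 = 1 ∧ m3' r = 0 ∧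
          m3' r' = 0 ∧ m1 r = 0 ∧ m1 r' = 0 ∧ m4 r = -m3 r ∧ m4 r' = 0 ∧
          (∀ w : ι → ℚ, ∑ i, (m3 i : ℚ) * w i =
            (m3 S : ℚ) * w S + ((m3 r : ℚ) * w r + (m3 r' : ℚ) * w r')) ∧
          (∀ i, i ≠ S → i ≠ r → i ≠ r' → m3 i = 0) ∧
          (∀ i, i ≠ S → i ≠ σ r → i ≠ σ r' → m3' i = 0) ∧
          -1 = m3 S * d S + (m3 r * d r + m3 r' * d r') := by
      rcases hP3 with ⟨-, q1, q2⟩ | ⟨-, q1, q2⟩
      · exact ⟨r1, r2, h1P, h2P, hS1, hS2, h12, n11, n12, n21, n22, n1S, n2S, s1, s2, hn1, hn2,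
          z1.2.1, z1.2.2, q1, q2, fun w => e3 w, hrest3, hrest3', deg3'⟩
      · exact ⟨r2, r1, h2P, h1P, hS2, hS1, h12.symm, n22, n21, n12, n11, n2S, n1S, s2, s1, hn2,
          hn1, z1.2.2, z1.2.1, q2, q1, fun w => by rw [e3 w]; ring,
          fun i u v w => hrest3 i u w v, fun i u v w => hrest3' i u w v, by linarith⟩
    have qS : m4 S = 0 := by rcases hP3 with h | h <;> exact h.1
    have hp : ∑ i ∈ Finset.univ \ ({r, σ r} : Finset ι), m4 i ^ 2 = 1 := by
      have := Finset.sum_sdiff (f := fun i => m4 i ^ 2)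
        (Finset.subset_univ ({r, σ r} : Finset ι))
      rw [H.h44, Finset.sum_pair nrr.symm, H.m4σ, qr, neg_sq, sr] at this
      linarith
    obtain ⟨p, hpm, sp, hrest4⟩ := exists_one_of_sum_sq _ m4 hp
    simp only [Finset.mem_sdiff, Finset.mem_univ, Finset.mem_insert, Finset.mem_singleton,
      true_and, not_or] at hpm
    have sp' : m4 p ^ 2 = 1 := sq_eq_one_iff.2 sp
    have hpP : p ≠ P := fun h => by rw [h, H.m4P] at sp'; simp at sp'
    have hne : ∀ x, m4 x = 0 → p ≠ x := fun x hx h => by rw [h, hx] at sp'; simp at sp'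
    have pS := hne S qS
    have pr' := hne r' qr'
    have pσ' := hne (σ r') (by rw [H.m4σ, qr'])
    have e4 : ∀ w : ι → ℚ, ∑ i, (m4 i : ℚ) * w i =
        (m4 r : ℚ) * w r + ((m4 r : ℚ) * w (σ r) + (m4 p : ℚ) * w p) := by
      intro w
      rw [sum_mul_support m4 w {r, σ r, p} (fun i hi => by
        simp only [Finset.mem_insert, Finset.mem_singleton, not_or] at hi
        exact hrest4 i (by simp [hi.1, hi.2.1]) hi.2.2),
        Finset.sum_insert (by simp [nrr.symm, (Ne.symm hpm.1)]), Finset.sum_pair (Ne.symm hpm.2), H.m4σ]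
    have e4z : ∀ w : ι → ℤ, ∑ i, m4 i * w i = m4 r * w r + (m4 r * w (σ r) + m4 p * w p) := by
      intro w
      have h := e4 (fun i => (w i : ℚ))
      exact_mod_cast h
    have m1p : m1 p = 0 := by
      have h := e4z m1
      rw [Finset.sum_congr rfl (fun i _ => mul_comm _ _), H.h14, H.m1σ, z1r] at h
      rcases sp with u | u <;> rw [u] at h <;> omega
    have f4 := e4z d
    rw [H.deg4, H.dσ, qr] at f4
    have zS' : z S = 6 * m3 S := by rw [zS, qS]; ring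
    have zr' : z r' = 3 * m3 r' := by rw [zr r' hr' z1r' hnr', qr']; ring
    have zr0 : z r = -2 * m3 r := by rw [zr r hr z1r hnr, qr]; ring
    have m3p : m3 p = 0 ∧ m3' p = 0 := ⟨hr3 p pS hpm.1 pr', hr3' p pS hpm.2 pσ'⟩
    have zp : z p = 5 * m4 p := by rw [H.hz p hpP, m3p.1, m3p.2, m1p]; ring
    have L3 := H.L3
    have L4 := H.L4
    rw [e3'] at L3
    rw [e4, qr, H.dσ] at L4
    have zσ : (z (σ r) : ℚ) ^ 2 = 4 := by
      have hσrP : σ r ≠ P := fun h => hr (H.hσ.1 (h.trans H.hσP.symm))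
      have : z (σ r) = -2 * m3 r := by
        rw [H.hz _ hσrP, H.m1σ, H.m3σ, H.m3'σ, H.m4σ, z1r, hnr, qr]; ring
      exact_mod_cast (show z (σ r) ^ 2 = 4 by rw [this, mul_pow, sr]; norm_num)
    have z2r : (z r : ℚ) ^ 2 = 4 := by
      exact_mod_cast (show z r ^ 2 = 4 by rw [zr0, mul_pow, sr]; norm_num)
    have z2S : (z S : ℚ) ^ 2 = 36 := by
      exact_mod_cast (show z S ^ 2 = 36 by rw [zS', mul_pow, sS]; norm_num)
    have z2r' : (z r' : ℚ) ^ 2 = 9 := by
      exact_mod_cast (show z r' ^ 2 = 9 by rw [zr', mul_pow, sr']; norm_num)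
    have z2p : (z p : ℚ) ^ 2 = 25 := by
      exact_mod_cast (show z p ^ 2 = 25 by rw [zp, mul_pow, sp']; norm_num)
    rw [z2S, z2r, z2r', signed_div sS, signed_div sr, signed_div sr'] at L3
    push_cast at L4
    rw [z2r, zσ, z2p, neg_mul, signed_div sr, signed_div sp'] at L4
    have cr := signed_congr (k := -2) sr (by have := H.cong r; rwa [zr0] at this)
    have cr' := signed_congr (k := 3) sr' (by have := H.cong r'; rwa [zr'] at this)
    have cp := signed_congr (k := 5) sp' (by have := H.cong p; rwa [zp] at this)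
    have cS := signed_congr (k := 6) sS (by have := H.cong S; rwa [zS'] at this)
    norm_num at cr cr' cp cS
    have hsq := Finset.sum_le_univ_sum_of_nonneg (fun i => sq_nonneg (d i))
      (s := insert P (insert p {S, r, r', σ r, σ r'}))
    have hPσ : P ≠ σ r := fun h => hr (H.hσ.1 (h.symm.trans H.hσP.symm))
    have hPσ' : P ≠ σ r' := fun h => hr' (H.hσ.1 (h.symm.trans H.hσP.symm))
    rw [Finset.sum_insert (by
        simp only [Finset.mem_insert, Finset.mem_singleton, not_or]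
        exact ⟨hpP.symm, hSP.symm, hr.symm, hr'.symm, hPσ, hPσ'⟩),
      Finset.sum_insert (by simp [pS, hpm.1, hpm.2, pr', pσ']),
      five_distinct H.hσ hS hS' hrr' nrr nrr' nr'r nr'r' nrS nr'S, H.sq, H.hdP, H.dσ, H.dσ] at hsq
    have sS' := mul_sq_cancel sS (d S)
    have s1' := mul_sq_cancel sr (d r)
    have s2' := mul_sq_cancel sr' (d r')
    have sp'' := mul_sq_cancel sp' (d p)
    have psum : m4 p * d p = 1 + 2 * (m3 r * d r) := by linarith
    generalize hW : m3 S * d S = W at deg L3 cS sS'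
    generalize hX : m3 r * d r = X at deg L3 L4 cr s1' psum
    generalize hY : m3 r' * d r' = Y at deg L3 cr' s2'
    generalize hQ : m4 p * d p = Q at L4 cp psum sp''
    have w0 : (W : ℚ) ≠ 0 := Int.cast_ne_zero.2 (by omega)
    have x0 : (X : ℚ) ≠ 0 := Int.cast_ne_zero.2 (by omega)
    have y0 : (Y : ℚ) ≠ 0 := Int.cast_ne_zero.2 (by omega)
    have k0 : (Q : ℚ) ≠ 0 := Int.cast_ne_zero.2 (by omega)
    refine p3_arith (g := g) (W := W) (X := X) (Y := Y) (P := Q) H.hg H.h16 H.h15 cr cr'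
      (by linarith) psum ?_ ?_ ?_
    · have : (g : ℚ) * (W * X * Y + 36 * X * Y + 4 * W * Y + 9 * W * X) =
          144000 * (W * X * Y) := by
        field_simp at L3
        linear_combination L3
      exact_mod_cast this
    · have : (g : ℚ) * (-(X * Q) - 8 * Q + 25 * X) = -86400 * (X * Q) := by
        field_simp at L4
        linear_combination L4
      exact_mod_cast this
    · rw [sS', s1', s2', sp'']
      linarith

end CfsgLib.JankoCent
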