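import Cfsg.Agent.Lib.JankoCent.Model

/-!
# The exceptional functions and the counts
-/

set_option autoImplicit false
set_option maxRecDepth 100000
set_option maxHeartbeats 4000000

namespace CfsgLib.JankoCent

open Cfsg CfsgLib.Characters
open scoped ComplexConjugate

-- decide bounded statements by running through the list, not through the whole type
attribute [local instance 2000] List.decidableBAll

/-- A primitive fifth root of unity. -/
noncomputable def z5 : ℂ := Complex.exp (2 * Real.pi * Complex.I / 5)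

theorem z5_prim : IsPrimitiveRoot z5 5 := by
  simpa [z5] using Complex.isPrimitiveRoot_exp 5 (by norm_num)

theorem z5_pow : z5 ^ 5 = 1 := z5_prim.pow_eq_one

theorem z5_sum : 1 + z5 + z5 ^ 2 + z5 ^ 3 + z5 ^ 4 = 0 := by
  have h := z5_prim.geom_sum_eq_zero (by norm_num)
  simpa [Finset.sum_range_succ] using h

/-- One Gaussian period. -/
noncomputable def gA : ℂ := z5 + z5 ^ 4

/-- The other Gaussian period. -/
noncomputable def gB : ℂ := z5 ^ 2 + z5 ^ 3

theorem gA_add_gB : gA + gB = -1 := by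
  unfold gA gB
  linear_combination z5_sum

theorem gA_mul_gB : gA * gB = -1 := by
  unfold gA gB
  linear_combination z5_sum + (z5 + z5 ^ 2) * z5_pow

theorem gA_sq : gA * gA = 1 - gA := by
  linear_combination gA * gA_add_gB - gA_mul_gB

theorem gB_sq : gB * gB = 1 - gB := by
  linear_combination gB * gA_add_gB - gA_mul_gB

theorem conj_z5 : conj z5 = z5 ^ 4 := by
  have hn : ‖z5‖ = 1 := Complex.norm_eq_one_of_pow_eq_one z5_pow (by norm_num)
  have h : z5 * conj z5 = 1 := by rw [Complex.mul_conj', hn]; simp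
  linear_combination z5 ^ 4 * h - conj z5 * z5_pow

theorem conj_gA : conj gA = gA := by
  rw [gA, map_add, map_pow, conj_z5]
  linear_combination (z5 * (z5 ^ 10 + z5 ^ 5 + 1)) * z5_pow

theorem conj_gB : conj gB = gB := by
  rw [gB, map_add, map_pow, map_pow, conj_z5]
  linear_combination (z5 ^ 3 + z5 ^ 2 * (z5 ^ 5 + 1)) * z5_pow

/-- The first function. -/
noncomputable def v1 : Fin 10 → ℂ := ![0, 0, 0, 0, 0, 8, 0, 2, -2, -2]

/-- The second function. -/
noncomputable def v3 : Fin 10 → ℂ := ![0, 0, 0, 0, 0, 8, 0, 2, 2 * (2 + gA), 2 * (2 + gB)]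

/-- The conjugate of the second function. -/
noncomputable def v3' : Fin 10 → ℂ := ![0, 0, 0, 0, 0, 8, 0, 2, 2 * (2 + gB), 2 * (2 + gA)]

/-- The third function. -/
noncomputable def v4 : Fin 10 → ℂ := ![0, 0, 0, 0, 0, 8, 0, -4, -2, -2]

/-- The character with kernel `A₅`. -/
noncomputable def sgn : M → ℂ := fun g => if (coords g).1 = true then -1 else 1

theorem isGeneralized_sgn : IsGeneralizedCharacter M sgn := by
  refine isGeneralizedCharacter_of_isCharacter ?_
  let f : M →* ℂ :=
    { toFun := sgn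
      map_one' := by simp [sgn, coords_one, t1]
      map_mul' := fun a b => by
        simp only [sgn, coords_mul, tmul, mk]
        cases (coords a).1 <;> cases (coords b).1 <;> simp }
  exact CfsgLib.Induction.isCharacter_monoidHom f

theorem rep_fst : ∀ i, (rep i).1 = ![false, false, false, false, false, true, true, true, true,
    true] i := by decide +kernel

section

variable [Fintype M]

theorem isClassFunction_ind {ζ : ℂ} (hζ : ζ ^ 5 = 1) (p : T → Prop) (h1 : p t1)
    (hm : ∀ x ∈ gl, p x → ∀ y ∈ gl, p y → p (tmul x y)) (l : T → Fin 5) (hl1 : (l t1).val = 0)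
    (hl : ∀ x ∈ gl, p x → ∀ y ∈ gl, p y →
      (l (tmul x y)).val = ((l x).val + (l y).val) % 5) :
    IsClassFunction M (indFun (sub p h1 hm) (lin ζ l _)) :=
  isClassFunction_of_isGeneralizedCharacter (isGeneralized_ind hζ p h1 hm l hl1 hl)

theorem ind_A : indFun (sub pA pA_one pA_mul) (lin 1 lOne _) =
    cf ![5, 1, 2, 0, 0, 5, 1, 2, 0, 0] := by
  refine eq_of_rep (isClassFunction_ind (one_pow 5) pA pA_one pA_mul lOne rfl
    (fun _ _ _ _ _ _ => rfl)) (isClassFunction_cf _) ?_
  rintro g ⟨i, hi⟩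
  rw [ind_apply, cf, hi, cls_rep, card_pA, Fin.sum_univ_five, cnt_A, cnt_A, cnt_A, cnt_A, cnt_A]
  fin_cases i <;> norm_num [Fin.ext_iff]

theorem ind_D : indFun (sub pD pD_one pD_mul) (lin 1 lOne _) =
    cf ![6, 2, 0, 1, 1, 6, 2, 0, 1, 1] := by
  refine eq_of_rep (isClassFunction_ind (one_pow 5) pD pD_one pD_mul lOne rfl
    (fun _ _ _ _ _ _ => rfl)) (isClassFunction_cf _) ?_
  rintro g ⟨i, hi⟩
  rw [ind_apply, cf, hi, cls_rep, card_pD, Fin.sum_univ_five, cnt_D, cnt_D, cnt_D, cnt_D, cnt_D]
  fin_cases i <;> norm_num [Fin.ext_iff]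

theorem ind_C {ζ : ℂ} (hζ : ζ ^ 5 = 1) : indFun (sub pC pC_one pC_mul) (lin ζ lC _) =
    cf ![12, 0, 0, ζ + ζ ^ 4, ζ ^ 2 + ζ ^ 3, 12, 0, 0, ζ + ζ ^ 4, ζ ^ 2 + ζ ^ 3] := by
  refine eq_of_rep (isClassFunction_ind hζ pC pC_one pC_mul lC rfl lC_mul)
    (isClassFunction_cf _) ?_
  rintro g ⟨i, hi⟩
  rw [ind_apply, cf, hi, cls_rep, card_pC, Finset.sum_congr rfl (fun k _ => by rw [cnt_C i k])]
  fin_cases i <;> simp [tblC, Fin.sum_univ_five] <;> ring

theorem isGeneralized_twist {v w : Fin 10 → ℂ} (hv : IsGeneralizedCharacter M (cf v))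
    (h : ∀ i, w i = if (rep i).1 = true then 2 * v i else 0) :
    IsGeneralizedCharacter M (cf w) := by
  have e : cf w = cf v - sgn * cf v := by
    refine eq_of_rep (isClassFunction_cf _) (isClassFunction_of_isGeneralizedCharacter
      (isGeneralizedCharacter_sub hv (isGeneralizedCharacter_mul isGeneralized_sgn hv))) ?_
    rintro g ⟨i, hi⟩
    simp only [Pi.sub_apply, Pi.mul_apply, sgn, cf, hi, cls_rep, h]
    cases (rep i).1 <;> simp <;> ring
  rw [e]
  exact isGeneralizedCharacter_sub hv (isGeneralizedCharacter_mul isGeneralized_sgn hv)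

theorem isGeneralized_four :
    IsGeneralizedCharacter M (cf ![4, 0, 1, -1, -1, 4, 0, 1, -1, -1]) := by
  have h : cf ![4, 0, 1, -1, -1, 4, 0, 1, -1, -1] =
      indFun (sub pA pA_one pA_mul) (lin 1 lOne _) - 1 := by
    funext g
    rw [Pi.sub_apply, ind_A, Pi.one_apply, cf, cf]
    generalize cls (coords g) = i
    fin_cases i <;> norm_num
  rw [h]
  exact isGeneralizedCharacter_sub (isGeneralized_ind (one_pow 5) pA pA_one pA_mul lOne rfl
    (fun _ _ _ _ _ _ => rfl)) isGeneralizedCharacter_one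

theorem isGeneralized_five :
    IsGeneralizedCharacter M (cf ![4, 0, -2, -1, -1, 4, 0, -2, -1, -1]) := by
  have h : cf ![4, 0, -2, -1, -1, 4, 0, -2, -1, -1] =
      indFun (sub pD pD_one pD_mul) (lin 1 lOne _) - 1 - 1 := by
    funext g
    rw [Pi.sub_apply, Pi.sub_apply, ind_D, Pi.one_apply, cf, cf]
    generalize cls (coords g) = i
    fin_cases i <;> norm_num
  rw [h]
  exact isGeneralizedCharacter_sub (isGeneralizedCharacter_sub (isGeneralized_ind (one_pow 5) pD
    pD_one pD_mul lOne rfl (fun _ _ _ _ _ _ => rfl)) isGeneralizedCharacter_one)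
    isGeneralizedCharacter_one

theorem isGeneralized_three {ζ : ℂ} (hζ : ζ ^ 5 = 1) :
    IsGeneralizedCharacter M (cf ![4, 0, 1, ζ + ζ ^ 4 + 2, ζ ^ 2 + ζ ^ 3 + 2, 4, 0, 1,
      ζ + ζ ^ 4 + 2, ζ ^ 2 + ζ ^ 3 + 2]) := by
  have h : cf ![4, 0, 1, ζ + ζ ^ 4 + 2, ζ ^ 2 + ζ ^ 3 + 2, 4, 0, 1, ζ + ζ ^ 4 + 2,
        ζ ^ 2 + ζ ^ 3 + 2] =
      indFun (sub pC pC_one pC_mul) (lin ζ lC _) - cf ![4, 0, 1, -1, -1, 4, 0, 1, -1, -1]
        - cf ![4, 0, -2, -1, -1, 4, 0, -2, -1, -1] := by
    funext g
    rw [Pi.sub_apply, Pi.sub_apply, ind_C hζ, cf, cf, cf, cf]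
    generalize cls (coords g) = i
    fin_cases i <;> norm_num <;> ring
  rw [h]
  exact isGeneralizedCharacter_sub (isGeneralizedCharacter_sub (isGeneralized_ind hζ pC pC_one
    pC_mul lC rfl lC_mul) isGeneralized_four) isGeneralized_five

theorem isGeneralized_v1 : IsGeneralizedCharacter M (cf v1) :=
  isGeneralized_twist isGeneralized_four fun i => by
    rw [rep_fst]; fin_cases i <;> norm_num [v1]

theorem isGeneralized_v4 : IsGeneralizedCharacter M (cf v4) :=
  isGeneralized_twist isGeneralized_five fun i => by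
    rw [rep_fst]; fin_cases i <;> norm_num [v4]

theorem isGeneralized_v3 : IsGeneralizedCharacter M (cf v3) :=
  isGeneralized_twist (isGeneralized_three z5_pow) fun i => by
    rw [rep_fst]; fin_cases i <;> norm_num [v3, gA, gB] <;> ring

theorem isGeneralized_v3' : IsGeneralizedCharacter M (cf v3') :=
  isGeneralized_twist (isGeneralized_three (ζ := z5 ^ 2)
      (by rw [← pow_mul, mul_comm, pow_mul, z5_pow, one_pow])) fun i => by
    rw [rep_fst]
    fin_cases i <;> norm_num [v3', gA, gB] <;>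
      first
        | linear_combination (-z5 ^ 3) * z5_pow
        | linear_combination (-z5) * z5_pow

end

/-! ## The support and the counts -/

/-- Powers in coordinates. -/
def tpow (x : T) : ℕ → T
  | 0 => t1
  | n + 1 => tmul (tpow x n) x

theorem coords_pow (g : M) (n : ℕ) : coords (g ^ n) = tpow (coords g) n := by
  induction n with
  | zero => rw [pow_zero, coords_one]; rfl
  | succ n ih => rw [pow_succ, coords_mul, ih]; rfl

/-- The support. -/
def inD (x : T) : Prop := cls x ∈ ([5, 7, 8, 9] : List (Fin 10))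

instance : DecidablePred inD := fun x =>
  inferInstanceAs (Decidable (cls x ∈ ([5, 7, 8, 9] : List (Fin 10))))

/-- A nontrivial element of square one. -/
def isInv (x : T) : Prop := tmul x x = t1 ∧ x ≠ t1

instance : DecidablePred isInv := fun x => inferInstanceAs (Decidable (_ ∧ _))

theorem inD_pow : ∀ x ∈ gl, inD x → tpow x 15 = tT := by decide +kernel

theorem central_involution : ∀ x ∈ gl, isInv x → (∀ y ∈ gl, tmul x y = tmul y x) → x = tT := by
  decide +kernel

theorem involution_cls : ∀ x ∈ gl, isInv x ↔ cls x ∈ ([1, 5, 6] : List (Fin 10)) := by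
  decide +kernel

theorem cls_eq_five : ∀ x ∈ gl, cls x = 5 → x = tT := by decide +kernel

theorem no_four : ∀ x ∈ gl, tpow x 4 = t1 → tpow x 2 = t1 := by decide +kernel

theorem pS_sq : ∀ x ∈ gl, pS x → tmul x x = t1 := by decide +kernel

theorem pS_centralizer : ∀ x ∈ gl, (∀ y ∈ gl, pS y → tmul x y = tmul y x) → pS x := by
  decide +kernel

/-- The number of involutions of a Sylow `2`-subgroup in the given classes. -/
def fixCount (b c : Bool) : ℕ :=
  gl.countP fun x => decide (pS x ∧ (cls x = 5 ∨ (b = true ∧ cls x = 1) ∨ (c = true ∧ cls x = 6)))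

theorem fixCount_odd : ∀ b c, fixCount b c % 2 = 1 → b = c := by decide +kernel

/-- The number of factorisations into two involutions. -/
def invCount (x : T) : ℕ := gl.countP fun y => decide (isInv y ∧ isInv (tmul y x))

/-- Their number on each class. -/
def invTbl : Fin 10 → ℕ := ![0, 0, 0, 0, 0, 30, 0, 6, 10, 10]

theorem card_invCount : ∀ x ∈ gl, inD x → invCount x = invTbl (cls x) := by decide +kernel

end CfsgLib.JankoCent
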