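import Cfsg.Agent.Lib.JankoCent.Transfer
import Cfsg.Agent.S0215
import Mathlib.GroupTheory.Sylow
import Mathlib.GroupTheory.Subgroup.Simple

/-!
# All involutions are conjugate
-/

set_option autoImplicit false
set_option linter.style.haveILetI false
set_option maxRecDepth 100000
set_option maxHeartbeats 4000000

namespace CfsgLib.JankoCent

variable {G : Type*} [Group G] {t : G}

theorem not_comm_gl : ¬ ∀ x ∈ gl, ∀ y ∈ gl, tmul x y = tmul y x := by decide +kernel

theorem pS_comm : ∀ x ∈ gl, pS x → ∀ y ∈ gl, pS y → tmul x y = tmul y x := by decide +kernel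

theorem pS_tT : pS tT := by decide +kernel

theorem pS_cls : ∀ x ∈ gl, pS x → x ≠ t1 → isInv x := by decide +kernel

/-- The Sylow `2`-subgroup coming from the model. -/
noncomputable def sylT (e : Ct t ≃* M) : Subgroup G :=
  ((sub pS pS_one pS_mul).comap e.toMonoidHom).map (Ct t).subtype

theorem sylT_le (e : Ct t ≃* M) : sylT e ≤ Ct t := Subgroup.map_subtype_le _

theorem mem_sylT (e : Ct t ≃* M) (h : Ct t) : (h : G) ∈ sylT e ↔ pS (cc e h) :=
  ⟨fun ⟨a, ha, e'⟩ => by rw [← Subtype.ext e' (a1 := a) (a2 := h)]; exact ha,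
    fun hp => ⟨h, hp, rfl⟩⟩

theorem card_sylT (e : Ct t ≃* M) : Nat.card (sylT e) = 8 := by
  rw [sylT, Subgroup.card_map_of_injective (Ct t).subtype_injective]
  rw [show Nat.card ((sub pS pS_one pS_mul).comap e.toMonoidHom) =
    Nat.card (sub pS pS_one pS_mul) from
      Nat.card_congr (e.toEquiv.subtypeEquiv fun _ => Iff.rfl), card_sub, card_pS]

theorem isInv_of_mem_sylT (e : Ct t ≃* M) {x : G} (hx : x ∈ sylT e) (h1 : x ≠ 1) :
    x * x = 1 := by
  have h := (mem_sylT e ⟨x, sylT_le e hx⟩).1 hx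
  exact ((isInv_iff e ⟨x, sylT_le e hx⟩).1 (pS_cls _ (cc_mem e _) h fun hh => h1
    (congrArg Subtype.val (cc_injective e (hh.trans (cc_one e).symm))))).1

/-- Elements of the centralizer in one class are conjugate. -/
theorem conj_of_cls (e : Ct t ≃* M) {a b : Ct t} (h : cls (cc e a) = cls (cc e b)) :
    IsConj (a : G) (b : G) := by
  obtain ⟨r, hr⟩ := cc_surj e (rep_mem (cls (cc e a)))
  have key : ∀ c : Ct t, cls (cc e c) = cls (cc e a) → IsConj (r : G) (c : G) := by
    intro c hc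
    obtain ⟨x, hx, hxc⟩ := conj_rep _ (cc_mem e c)
    obtain ⟨u, rfl⟩ := cc_surj e hx
    rw [hc, ← hr] at hxc
    simp only [cc] at hxc
    rw [← coords_conj, ← map_inv, ← map_mul, ← map_mul] at hxc
    refine isConj_iff.2 ⟨(u : G)⁻¹, ?_⟩
    rw [← e.injective (coords_injective hxc)]
    simp
  exact (key a rfl).symm.trans (key b h.symm)

theorem not_central [IsSimpleGroup G] (ht : orderOf t = 2) (e : Ct t ≃* M) :
    ¬ ∀ x : G, t * x = x * t := by
  intro h
  have hc : Subgroup.center G = ⊤ := by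
    rcases Subgroup.Normal.eq_bot_or_eq_top (inferInstance : (Subgroup.center G).Normal) with
      hb | hb
    · have : t ∈ Subgroup.center G := Subgroup.mem_center_iff.2 fun x => (h x).symm
      rw [hb, Subgroup.mem_bot] at this
      exact absurd this (t_ne_one ht)
    · exact hb
  refine not_comm_gl fun x hx y hy => ?_
  obtain ⟨a, rfl⟩ := cc_surj e hx
  obtain ⟨b, rfl⟩ := cc_surj e hy
  rw [← cc_mul, ← cc_mul]
  refine congrArg (cc e) (Subtype.ext ?_)
  have hb : (b : G) ∈ Subgroup.center G := by rw [hc]; exact Subgroup.mem_top _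
  exact Subgroup.mem_center_iff.1 hb a

variable [Finite G]

theorem order_mod (e : Ct t ≃* M) (hP : ∃ P : Sylow 2 G, t ∈ P ∧ ∀ x ∈ P, x * t = t * x) :
    Nat.card G % 16 = 8 ∧ 120 ∣ Nat.card G := by
  have h120 : 120 ∣ Nat.card G := card_Ct e ▸ Subgroup.card_subgroup_dvd_card (Ct t)
  refine ⟨?_, h120⟩
  obtain ⟨P, -, hP⟩ := hP
  haveI : Fact (Nat.Prime 2) := ⟨Nat.prime_two⟩
  have hle : (P : Subgroup G) ≤ Ct t := fun x hx => mem_Ct.2 (hP x hx)
  have hd := Subgroup.card_dvd_of_le hle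
  rw [card_Ct e] at hd
  by_contra h
  have h16 : 2 ^ 4 ∣ Nat.card G := by
    norm_num
    omega
  have := (P.pow_dvd_card_of_pow_dvd_card h16).trans hd
  norm_num at this

theorem factorization_two (h : Nat.card G % 16 = 8) : (Nat.card G).factorization 2 = 3 := by
  have hpos : Nat.card G ≠ 0 := Nat.card_pos.ne'
  have h1 := (Nat.Prime.pow_dvd_iff_le_factorization Nat.prime_two hpos (k := 3)).1
    (by norm_num; omega)
  have h2 : ¬ 4 ≤ (Nat.card G).factorization 2 := fun hh => by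
    have := (Nat.Prime.pow_dvd_iff_le_factorization Nat.prime_two hpos (k := 4)).2 hh
    norm_num at this
    omega
  omega

/-- The Sylow `2`-subgroup. -/
noncomputable def sylP (e : Ct t ≃* M) (h : Nat.card G % 16 = 8) : Sylow 2 G :=
  haveI : Fact (Nat.Prime 2) := ⟨Nat.prime_two⟩
  Sylow.ofCard (sylT e) (by rw [card_sylT e, factorization_two h]; norm_num)

theorem mem_sylP (e : Ct t ≃* M) (h : Nat.card G % 16 = 8) (x : G) :
    x ∈ sylP e h ↔ x ∈ sylT e := Iff.rfl

theorem all_conj [IsSimpleGroup G] (ht : orderOf t = 2) (e : Ct t ≃* M)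
    (h16 : Nat.card G % 16 = 8) (a : Ct t) (ha : (a : G) * a = 1) (ha1 : (a : G) ≠ 1) :
    IsConj t (a : G) := by
  classical
  haveI : Fact (Nat.Prime 2) := ⟨Nat.prime_two⟩
  let bb : Bool := decide (∃ c : Ct t, cls (cc e c) = 1 ∧ IsConj t (c : G))
  let bc : Bool := decide (∃ c : Ct t, cls (cc e c) = 6 ∧ IsConj t (c : G))
  have good : ∀ c : Ct t, IsConj t (c : G) ↔ cls (cc e c) = 5 ∨ (bb = true ∧ cls (cc e c) = 1) ∨
      (bc = true ∧ cls (cc e c) = 6) := by
    intro c
    constructor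
    · intro hc
      obtain ⟨g, hg⟩ := isConj_iff.1 hc
      have hinv : isInv (cc e c) := by
        refine (isInv_iff e c).2 ⟨?_, ?_⟩
        · rw [← hg, show g * t * g⁻¹ * (g * t * g⁻¹) = g * (t * t) * g⁻¹ by group, sq_t ht]
          group
        · rw [← hg]; exact fun h => t_ne_one ht (by simpa using h)
      have h156 := (involution_cls _ (cc_mem e c)).1 hinv
      simp only [List.mem_cons, List.not_mem_nil, or_false] at h156
      rcases h156 with h | h | h
      · exact Or.inr (Or.inl ⟨decide_eq_true ⟨c, h, hc⟩, h⟩)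
      · exact Or.inl h
      · exact Or.inr (Or.inr ⟨decide_eq_true ⟨c, h, hc⟩, h⟩)
    · rintro (h | ⟨hb, h⟩ | ⟨hb, h⟩)
      · rw [(eq_tC_iff e ht c).2 (cls_eq_five _ (cc_mem e c) h)]
      all_goals
        obtain ⟨d, hd, hdc⟩ := of_decide_eq_true hb
        exact hdc.trans (conj_of_cls e (hd.trans h.symm))
  -- the Sylow subgroup acting on the class of `t`
  let K : Type _ := {x : G // IsConj t x}
  letI act : MulAction (sylT e) K :=
    { smul := fun h x => ⟨(h : G) * x.1 * (h : G)⁻¹, x.2.trans (isConj_iff.2 ⟨(h : G), rfl⟩)⟩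
      one_smul := fun x => Subtype.ext (by simp [HSMul.hSMul, SMul.smul])
      mul_smul := fun h k x => Subtype.ext (by simp [HSMul.hSMul, SMul.smul, mul_assoc]) }
  have smul_def : ∀ (h : sylT e) (x : K), ((h • x : K) : G) = (h : G) * x.1 * (h : G)⁻¹ :=
    fun _ _ => rfl
  have hp : IsPGroup 2 (sylT e) :=
    IsPGroup.of_card (n := 3) (by rw [card_sylT e]; norm_num)
  have hmod := hp.card_modEq_card_fixedPoints (α := K)
  have hK : Nat.card K % 2 = 1 := by
    have h1 : Nat.card K * Nat.card (Ct t) = Nat.card G :=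
      CfsgLib.Characters.card_isConj_mul_card_centralizer t
    rw [card_Ct e] at h1
    omega
  have hmem : ∀ x : K, x ∈ MulAction.fixedPoints (sylT e) K → x.1 ∈ Ct t := by
    intro x hx
    have h1 := congrArg Subtype.val (hx ⟨t, (mem_sylT e (tC t)).2 (by rw [cc_tC e ht]; exact pS_tT)⟩)
    rw [smul_def] at h1
    exact mem_Ct.2 (mul_inv_eq_iff_eq_mul.1 h1).symm
  have hfix : Nat.card (MulAction.fixedPoints (sylT e) K) = fixCount bb bc := by
    rw [fixCount, ← card_toFinset_filter, ← Nat.card_eq_finsetCard]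
    refine Nat.card_eq_of_bijective (fun x => ⟨cc e ⟨x.1.1, hmem x.1 x.2⟩, ?_⟩) ⟨?_, ?_⟩
    · refine Finset.mem_filter.2 ⟨List.mem_toFinset.2 (cc_mem e _), ?_, ?_⟩
      · refine pS_centralizer _ (cc_mem e _) fun y hy hyS => ?_
        obtain ⟨b, rfl⟩ := cc_surj e hy
        have h1 := congrArg Subtype.val (x.2 ⟨b, (mem_sylT e b).2 hyS⟩)
        rw [smul_def] at h1
        rw [← cc_mul, ← cc_mul]
        exact congrArg (cc e) (Subtype.ext (mul_inv_eq_iff_eq_mul.1 h1).symm)
      · exact (good ⟨x.1.1, hmem x.1 x.2⟩).1 x.1.2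
    · intro x y hxy
      exact Subtype.ext (Subtype.ext (congrArg Subtype.val
        (cc_injective e (congrArg Subtype.val hxy)) :))
    · rintro ⟨y, hy⟩
      obtain ⟨hy0, hyS, hyG⟩ := Finset.mem_filter.1 hy
      obtain ⟨b, rfl⟩ := cc_surj e (List.mem_toFinset.1 hy0)
      refine ⟨⟨⟨b, (good b).2 hyG⟩, fun h => ?_⟩, rfl⟩
      refine Subtype.ext ?_
      rw [smul_def]
      refine mul_inv_eq_iff_eq_mul.2 ?_
      have h1 := pS_comm _ (cc_mem e ⟨h.1, sylT_le e h.2⟩) ((mem_sylT e ⟨h.1, sylT_le e h.2⟩).1 h.2)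
        _ (cc_mem e b) hyS
      rw [← cc_mul, ← cc_mul] at h1
      exact congrArg Subtype.val (cc_injective e h1)
  have hodd : fixCount bb bc % 2 = 1 := by
    rw [← hfix]
    exact Eq.trans hmod.symm hK
  have hbc := fixCount_odd bb bc hodd
  cases hb : bb
  · exfalso
    rw [hb] at hbc
    have hiso : ∀ g : G, g * t * g⁻¹ ∈ sylP e h16 → g * t * g⁻¹ = t := by
      intro g hg
      rw [mem_sylP] at hg
      have hc := (good ⟨_, sylT_le e hg⟩).1 (isConj_iff.2 ⟨g, rfl⟩)
      rw [hb, ← hbc] at hc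
      simp only [Bool.false_eq_true, false_and, or_false] at hc
      exact (eq_tC_iff e ht ⟨_, sylT_le e hg⟩).2 (cls_eq_five _ (cc_mem e _) hc)
    obtain ⟨N, hN, hNodd, hcomm⟩ := Cfsg.Agent.S0215.result (sylP e h16) t ht
      ((mem_sylP e h16 t).2 ((mem_sylT e (tC t)).2 (by rw [cc_tC e ht]; exact pS_tT))) hiso
    rcases Subgroup.Normal.eq_bot_or_eq_top hN with rfl | rfl
    · refine not_central ht e fun x => ?_
      have := Subgroup.mem_bot.1 (hcomm x)
      rwa [mul_inv_eq_one, mul_inv_eq_iff_eq_mul] at this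
    · rw [Subgroup.card_top, Nat.odd_iff] at hNodd
      omega
  · rw [hb] at hbc
    refine (good a).2 ?_
    have h156 := (involution_cls _ (cc_mem e a)).1 ((isInv_iff e a).2 ⟨ha, ha1⟩)
    simp only [List.mem_cons, List.not_mem_nil, or_false] at h156
    rcases h156 with h | h | h
    · exact Or.inr (Or.inl ⟨hb, h⟩)
    · exact Or.inl h
    · exact Or.inr (Or.inr ⟨hbc.symm, h⟩)

/-- Every involution of `G` is conjugate to `t`. -/
theorem conj_of_involution [IsSimpleGroup G] (ht : orderOf t = 2) (e : Ct t ≃* M)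
    (h16 : Nat.card G % 16 = 8) {u : G} (hu : orderOf u = 2) : IsConj t u := by
  haveI : Fact (Nat.Prime 2) := ⟨Nat.prime_two⟩
  have hp : IsPGroup 2 (Subgroup.zpowers u) :=
    IsPGroup.of_card (n := 1) (by rw [Nat.card_zpowers, hu]; norm_num)
  obtain ⟨Q, hQ⟩ := hp.exists_le_sylow
  obtain ⟨g, hg⟩ := MulAction.exists_smul_eq G Q (sylP e h16)
  have huQ : g * u * g⁻¹ ∈ sylP e h16 := by
    rw [← hg]
    exact Subgroup.smul_mem_pointwise_smul u (MulAut.conj g) _ (hQ (Subgroup.mem_zpowers u))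
  rw [mem_sylP] at huQ
  have hne : g * u * g⁻¹ ≠ 1 := fun h => by
    have : u = 1 := by simpa using h
    rw [this, orderOf_one] at hu
    omega
  exact (all_conj ht e h16 ⟨_, sylT_le e huQ⟩ (isInv_of_mem_sylT e huQ hne) hne).trans
    (isConj_iff.2 ⟨g⁻¹, by group⟩)

end CfsgLib.JankoCent
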