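import Cfsg.Agent.Lib.JankoCent.Seven
import Cfsg.Agent.Lib.JankoCent.Comb
import Cfsg.Agent.Lib.GL23.Main
import Cfsg.Agent.Lib.Blocks.DefectZeroVanish

/-!
# The order of a simple group with an involution centralizer `2 × A₅`
-/

set_option autoImplicit false
set_option linter.style.haveILetI false
set_option maxRecDepth 100000

namespace CfsgLib.JankoCent

open Cfsg CfsgLib.Characters
open scoped ComplexConjugate

variable {G : Type*} [Group G] {t : G}

theorem isChar_irr (χ : IrrCharacter G) : IsCharacter G (χ : G → ℂ) := by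
  obtain ⟨n, ρ, -, h⟩ := χ.2
  exact ⟨n, ρ, h⟩

theorem supp_v1 : Supp v1 := by intro i hi; fin_cases i <;> simp [v1] at hi ⊢
theorem supp_v3 : Supp v3 := by intro i hi; fin_cases i <;> simp [v3] at hi ⊢
theorem supp_v3' : Supp v3' := by intro i hi; fin_cases i <;> simp [v3'] at hi ⊢
theorem supp_v4 : Supp v4 := by intro i hi; fin_cases i <;> simp [v4] at hi ⊢

variable [Fintype G]

/-- No nonprincipal irreducible character has absolute value equal to its degree at `t`. -/
theorem norm_ne_degree [IsSimpleGroup G] (ht : orderOf t = 2) (e : Ct t ≃* M)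
    (χ : IrrCharacter G) (hne : χ ≠ principalIrr G) :
    ‖(χ : G → ℂ) t‖ ≠ ‖(χ : G → ℂ) 1‖ := by
  obtain ⟨χ', n, ρ, hρ, rfl⟩ := χ
  intro h
  change ‖ρ.character t‖ = ‖ρ.character 1‖ at h
  rw [Representation.char_one, Complex.norm_natCast] at h
  obtain ⟨w, hw⟩ := (norm_char_eq_iff_scalar ρ t).1 h
  have hker : ρ.ker = ⊥ ∨ ρ.ker = ⊤ := Subgroup.Normal.eq_bot_or_eq_top inferInstance
  rcases hker with hk | hk
  · refine not_central ht e fun x => (MonoidHom.ker_eq_bot_iff ρ).1 hk ?_
    rw [map_mul, map_mul, hw]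
    exact LinearMap.ext fun v => by simp
  · have hc : ρ.character = fun _ => (n : ℂ) := by
      funext g
      have hg : g ∈ ρ.ker := by rw [hk]; exact Subgroup.mem_top _
      rw [Representation.character, MonoidHom.mem_ker.1 hg]
      simp
    have h0 : classInner ρ.character (fun _ : G => (1 : ℂ)) = 0 :=
      classInner_irr_ne ⟨n, ρ, hρ, rfl⟩ isIrrCharacter_one fun hh => hne (Subtype.ext hh)
    rw [hc, classInner] at h0
    simp at h0
    haveI := hρ
    have := CfsgLib.Characters.nontrivial_of_irreducible ρ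
    subst h0
    exact not_subsingleton (Fin 0 → ℂ) inferInstance

/-- The sum of a character over a subgroup is a multiple of its order. -/
theorem exists_sum_eq (H : Subgroup G) [Fintype H] (χ : IrrCharacter G) :
    ∃ k : ℤ, ∑ h : H, conj ((χ : G → ℂ) (h : G)) = (k : ℂ) * (Nat.card H : ℂ) := by
  classical
  have hg : IsGeneralizedCharacter G (indFun H (1 : H → ℂ)) :=
    CfsgLib.CharArtin.isGeneralizedCharacter_indFun _ isGeneralizedCharacter_one
  obtain ⟨k, hk⟩ := (isGeneralizedCharacter_iff.1 hg).2 χ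
  rw [CfsgLib.Induction.classInner_indFun _ _
    (isClassFunction_of_isGeneralizedCharacter (isGeneralizedCharacter_irr χ)), classInner] at hk
  simp only [Pi.one_apply, one_mul] at hk
  have hH : (Nat.card H : ℂ) ≠ 0 := Nat.cast_ne_zero.2 Nat.card_pos.ne'
  refine ⟨k, ?_⟩
  rw [← hk, mul_right_comm, inv_mul_cancel₀ hH, one_mul]

theorem map_inner (τ : ℂ ≃+* ℂ) (F : G → ℂ) (χ : IrrCharacter G) :
    τ (classInner F (χ : G → ℂ)) = classInner (fun g => τ (F g)) (fun g => τ ((χ : G → ℂ) g)) := by
  simp only [classInner, map_mul, map_inv₀, map_natCast, map_sum]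
  congr 1
  refine Finset.sum_congr rfl fun g _ => ?_
  rw [← isGeneralizedCharacter_apply_inv (isGeneralizedCharacter_irr χ) g,
    ← isGeneralizedCharacter_apply_inv (θ := fun g => τ ((χ : G → ℂ) g))
      (isGeneralizedCharacter_irr ⟨_, CfsgLib.CharGalois.isIrrCharacter_map τ χ.2⟩) g]

theorem map_indFun (τ : ℂ ≃+* ℂ) (H : Subgroup G) (θ : H → ℂ) (g : G) :
    τ (indFun H θ g) = indFun H (fun h => τ (θ h)) g := by
  classical
  rw [CfsgLib.Induction.indFun_apply, CfsgLib.Induction.indFun_apply, map_mul, map_inv₀,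
    map_natCast, map_sum]
  congr 1
  refine Finset.sum_congr rfl fun x _ => ?_
  by_cases h : x⁻¹ * g * x ∈ H
  · rw [CfsgLib.Induction.extendByZero_mem _ _ h, CfsgLib.Induction.extendByZero_mem _ _ h]
  · rw [CfsgLib.Induction.extendByZero_notMem _ _ h, CfsgLib.Induction.extendByZero_notMem _ _ h,
      map_zero]

/-- The exponents realising all nontrivial powers of an element of order seven. -/
theorem seven_exp : ∀ j : Fin 7, j ≠ 0 → ∃ m ∈ ([1, 23, 17, 11, 19, 13] : List ℕ),
    m % 7 = j.val ∧ m.Coprime 189000 := by decide +kernel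

set_option maxHeartbeats 2000000 in
/-- The theorem. -/
theorem order_eq [IsSimpleGroup G] (ht : orderOf t = 2) (e : Ct t ≃* M)
    (hP : ∃ P : Sylow 2 G, t ∈ P ∧ ∀ x ∈ P, x * t = t * x) : Nat.card G = 175560 := by
  classical
  letI : Fintype M := Fintype.ofFinite M
  obtain ⟨h16, h120⟩ := order_mod e hP
  have hall := all_conj ht e h16
  let P0 : IrrCharacter G := principalIrr G
  let F : (Fin 10 → ℂ) → G → ℂ := fun v => indFun (Ct t) (th e v)
  have gF : ∀ {v}, IsGeneralizedCharacter M (cf v) → IsGeneralizedCharacter G (F v) := fun hv =>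
    CfsgLib.CharArtin.isGeneralizedCharacter_indFun _ (isGeneralized_th e hv)
  choose n1 hn1 using (isGeneralizedCharacter_iff.1 (gF isGeneralized_v1)).2
  choose n3 hn3 using (isGeneralizedCharacter_iff.1 (gF isGeneralized_v3)).2
  choose n3' hn3' using (isGeneralizedCharacter_iff.1 (gF isGeneralized_v3')).2
  choose n4 hn4 using (isGeneralizedCharacter_iff.1 (gF isGeneralized_v4)).2
  have c1 := isClassFunction_of_isGeneralizedCharacter (gF isGeneralized_v1)
  have c3 := isClassFunction_of_isGeneralizedCharacter (gF isGeneralized_v3)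
  have c3' := isClassFunction_of_isGeneralizedCharacter (gF isGeneralized_v3')
  have c4 := isClassFunction_of_isGeneralizedCharacter (gF isGeneralized_v4)
  choose dd hd0 hd using fun χ : IrrCharacter G => irr_exists_degree χ.2
  let d : IrrCharacter G → ℤ := fun χ => (dd χ : ℤ)
  -- inner products
  have ip : ∀ {u u' : Fin 10 → ℂ} {m m' : IrrCharacter G → ℤ}, IsClassFunction G (F u') →
      (∀ χ : IrrCharacter G, classInner (F u) (χ : G → ℂ) = m χ) →
      (∀ χ : IrrCharacter G, classInner (F u') (χ : G → ℂ) = m' χ) →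
      classInner (F u) (F u') = ((∑ χ, m χ * m' χ : ℤ) : ℂ) := by
    intro u u' m m' hF' hm hm'
    rw [classInner_eq_sum_mul hF']
    simp [hm, hm']
  have i11 := (inner_ind e ht supp_v1 supp_v1 isGeneralized_v1).symm.trans (ip c1 hn1 hn1)
  have i33 := (inner_ind e ht supp_v3 supp_v3 isGeneralized_v3).symm.trans (ip c3 hn3 hn3)
  have i44 := (inner_ind e ht supp_v4 supp_v4 isGeneralized_v4).symm.trans (ip c4 hn4 hn4)
  have i33' := (inner_ind e ht supp_v3 supp_v3' isGeneralized_v3').symm.trans (ip c3' hn3 hn3')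
  have i13 := (inner_ind e ht supp_v1 supp_v3 isGeneralized_v3).symm.trans (ip c3 hn1 hn3)
  have i14 := (inner_ind e ht supp_v1 supp_v4 isGeneralized_v4).symm.trans (ip c4 hn1 hn4)
  have i34 := (inner_ind e ht supp_v3 supp_v4 isGeneralized_v4).symm.trans (ip c4 hn3 hn4)
  simp [Fin.sum_univ_succ, clsSize, v1, v3, v3', v4, conj_gA, conj_gB, map_ofNat, map_neg,
    map_mul, map_add] at i11 i33 i44 i33' i13 i14 i34
  ring_nf at i11 i33 i44 i33' i13 i14 i34
  have j11 : ∑ χ, n1 χ * n1 χ = 2 := by
    have : ((∑ χ, n1 χ * n1 χ : ℤ) : ℂ) = 2 := by push_cast; ring_nf; linear_combination -i11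
    exact_mod_cast this
  have j33 : ∑ χ, n3 χ * n3 χ = 4 := by
    have : ((∑ χ, n3 χ * n3 χ : ℤ) : ℂ) = 4 := by
      push_cast; ring_nf; linear_combination -i33 + (2 / 5 : ℂ) * gA_sq + (2 / 5 : ℂ) * gB_sq +
        (6 / 5 : ℂ) * gA_add_gB
    exact_mod_cast this
  have j44 : ∑ χ, n4 χ * n4 χ = 4 := by
    have : ((∑ χ, n4 χ * n4 χ : ℤ) : ℂ) = 4 := by push_cast; ring_nf; linear_combination -i44
    exact_mod_cast this
  have j33' : ∑ χ, n3 χ * n3' χ = 2 := by
    have : ((∑ χ, n3 χ * n3' χ : ℤ) : ℂ) = 2 := by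
      push_cast; ring_nf; linear_combination -i33' + (4 / 5 : ℂ) * gA_mul_gB +
        (8 / 5 : ℂ) * gA_add_gB
    exact_mod_cast this
  have j13 : ∑ χ, n1 χ * n3 χ = 0 := by
    have : ((∑ χ, n1 χ * n3 χ : ℤ) : ℂ) = 0 := by
      push_cast; ring_nf; linear_combination -i13 - (2 / 5 : ℂ) * gA_add_gB
    exact_mod_cast this
  have j14 : ∑ χ, n1 χ * n4 χ = 0 := by
    have : ((∑ χ, n1 χ * n4 χ : ℤ) : ℂ) = 0 := by push_cast; ring_nf; linear_combination -i14
    exact_mod_cast this
  have j34 : ∑ χ, n3 χ * n4 χ = -2 := by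
    have : ((∑ χ, n3 χ * n4 χ : ℤ) : ℂ) = -2 := by
      push_cast; ring_nf; linear_combination -i34 - (2 / 5 : ℂ) * gA_add_gB
    exact_mod_cast this
  -- the principal character
  have hone : ∀ v : Fin 10 → ℂ, classInner (F v) (P0 : G → ℂ) =
      (120 : ℂ)⁻¹ * ∑ i, (clsSize i : ℂ) * v i := by
    intro v
    rw [inner_ind_vec e v (isClassFunction_of_isGeneralizedCharacter
      (isGeneralizedCharacter_irr P0)) (w := fun _ => 1) (fun h => by simp [P0, th])]
    simp
  have o1 := (hn1 P0).symm.trans (hone v1)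
  have o3 := (hn3 P0).symm.trans (hone v3)
  have o3' := (hn3' P0).symm.trans (hone v3')
  have o4 := (hn4 P0).symm.trans (hone v4)
  simp [Fin.sum_univ_succ, clsSize, v1, v3, v3', v4] at o1 o3 o3' o4
  have p1 : n1 P0 = 0 := by
    have : (n1 P0 : ℂ) = 0 := by rw [o1]; norm_num
    exact_mod_cast this
  have p3 : n3 P0 = 1 := by
    have : (n3 P0 : ℂ) = 1 := by rw [o3]; linear_combination (1 / 5 : ℂ) * gA_add_gB
    exact_mod_cast this
  have p3' : n3' P0 = 1 := by
    have : (n3' P0 : ℂ) = 1 := by rw [o3']; linear_combination (1 / 5 : ℂ) * gA_add_gB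
    exact_mod_cast this
  have p4 : n4 P0 = -1 := by
    have : (n4 P0 : ℂ) = -1 := by rw [o4]; norm_num
    exact_mod_cast this
  -- the values at the involution
  let z : IrrCharacter G → ℤ := fun χ => 4 * n1 χ + 3 * (n3 χ + n3' χ) + 5 * n4 χ
  have hz : ∀ χ : IrrCharacter G, (χ : G → ℂ) t = z χ := by
    intro χ
    obtain ⟨w, hw⟩ := exists_vec e (isClassFunction_of_isGeneralizedCharacter
      (isGeneralizedCharacter_irr χ))
    have h5 : (χ : G → ℂ) t = w 5 := by
      have := hw (tC t)
      rw [th, cc_tC e ht, show cls tT = 5 by decide +kernel] at this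
      exact this
    have q : ∀ v, classInner (F v) (χ : G → ℂ) =
        (120 : ℂ)⁻¹ * ∑ i, (clsSize i : ℂ) * (v i * conj (w i)) := fun v =>
      inner_ind_vec e v (isClassFunction_of_isGeneralizedCharacter
        (isGeneralizedCharacter_irr χ)) hw
    have q1 := (hn1 χ).symm.trans (q v1)
    have q3 := (hn3 χ).symm.trans (q v3)
    have q3' := (hn3' χ).symm.trans (q v3')
    have q4 := (hn4 χ).symm.trans (q v4)
    simp [Fin.sum_univ_succ, clsSize, v1, v3, v3', v4] at q1 q3 q3' q4
    have hc : conj (w 5) = (z χ : ℂ) := by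
      simp only [z, Int.cast_add, Int.cast_mul, Int.cast_ofNat]
      rw [q1, q3, q3', q4]
      linear_combination (-(3 / 5 : ℂ) * (conj (w 8) + conj (w 9))) * gA_add_gB
    rw [h5, ← Complex.conj_conj (w 5), hc, map_intCast]
  -- the Galois action
  obtain ⟨τ, hτ⟩ := CfsgLib.CharGalois.exists_autComplex 5 (m := 2) (by norm_num)
  have hτA : τ gA = gB := by
    rw [gA, map_add, map_pow, hτ z5 z5_pow, gB]
    linear_combination z5 ^ 3 * z5_pow
  have hτB : τ gB = gA := by
    rw [gB, map_add, map_pow, map_pow, hτ z5 z5_pow, gA]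
    linear_combination z5 * z5_pow
  let σ : IrrCharacter G → IrrCharacter G := fun χ =>
    ⟨fun g => τ ((χ : G → ℂ) g), CfsgLib.CharGalois.isIrrCharacter_map τ χ.2⟩
  have hσ : Function.Bijective σ := by
    refine Finite.injective_iff_bijective.1 fun χ ψ h => Subtype.ext (funext fun g => ?_)
    exact τ.injective (congrFun (congrArg Subtype.val h) g)
  have hgal : ∀ {v v' : Fin 10 → ℂ} {m m' : IrrCharacter G → ℤ},
      (∀ χ : IrrCharacter G, classInner (F v) (χ : G → ℂ) = m χ) →
      (∀ χ : IrrCharacter G, classInner (F v') (χ : G → ℂ) = m' χ) →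
      (∀ i, τ (v i) = v' i) → ∀ χ, m' (σ χ) = m χ := by
    intro v v' m m' hm hm' hv χ
    have h := map_inner τ (F v) χ
    rw [hm, map_intCast] at h
    have e1 : (fun g => τ (F v g)) = F v' := by
      funext g
      simp only [F, map_indFun]
      congr 1
      exact funext fun h => hv _
    rw [e1] at h
    have h2 := hm' (σ χ)
    simp only [σ] at h2
    rw [← h] at h2
    exact_mod_cast h2.symm
  have hσ1 := hgal hn1 hn1 (fun i => by fin_cases i <;> simp [v1, map_ofNat, map_neg])
  have hσ4 := hgal hn4 hn4 (fun i => by fin_cases i <;> simp [v4, map_ofNat, map_neg])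
  have hσ3 := hgal hn3 hn3' (fun i => by
    fin_cases i <;> simp [v3, v3', map_ofNat, hτA, hτB])
  have hσ3' := hgal hn3' hn3 (fun i => by
    fin_cases i <;> simp [v3, v3', map_ofNat, hτA, hτB])
  have hσP : σ P0 = P0 := Subtype.ext (funext fun g => by simp [σ, P0])
  have hdσ : ∀ χ, d (σ χ) = d χ := by
    intro χ
    have h := hd (σ χ)
    simp only [σ] at h
    rw [hd χ, map_natCast] at h
    simp only [d]
    exact_mod_cast h.symm
  have hdP : d P0 = 1 := by
    have h := hd P0
    simp only [P0, principalIrr_apply] at h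
    simp only [d, P0]
    exact_mod_cast h.symm
  have hzP : z P0 = 1 := by simp only [z, p1, p3, p3', p4]; norm_num
  -- congruence modulo eight
  have hcong : ∀ χ, (8 : ℤ) ∣ d χ - z χ := by
    intro χ
    letI : Fintype (sylT e) := Fintype.ofFinite _
    obtain ⟨k, hk⟩ := exists_sum_eq (sylT e) χ
    rw [card_sylT e] at hk
    have hval : ∀ h : sylT e, h ≠ 1 → conj ((χ : G → ℂ) (h : G)) = z χ := by
      intro h h1
      have hne : (h : G) ≠ 1 := fun hh => h1 (Subtype.ext hh)
      obtain ⟨g, hg⟩ := isConj_iff.1 (hall ⟨_, sylT_le e h.2⟩ (isInv_of_mem_sylT e h.2 hne) hne)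
      have := (isClassFunction_of_isGeneralizedCharacter (isGeneralizedCharacter_irr χ)) t g
      rw [hg, hz] at this
      rw [show ((⟨(h : G), sylT_le e h.2⟩ : Ct t) : G) = (h : G) from rfl] at this
      rw [this, map_intCast]
    rw [← Finset.add_sum_erase _ _ (Finset.mem_univ (1 : sylT e)), Finset.sum_congr rfl
      (fun h hh => hval h (Finset.mem_erase.1 hh).1), Finset.sum_const,
      Finset.card_erase_of_mem (Finset.mem_univ _), Finset.card_univ,
      ← Nat.card_eq_fintype_card, card_sylT e, OneMemClass.coe_one, hd, map_natCast] at hk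
    refine ⟨k - z χ, ?_⟩
    have : (d χ : ℂ) - z χ = 8 * ((k : ℂ) - z χ) := by
      simp only [d, Int.cast_natCast]
      norm_num at hk
      linear_combination hk
    exact_mod_cast this
  have hscal : ∀ χ, χ ≠ P0 → z χ ^ 2 ≠ d χ ^ 2 := by
    intro χ hne h
    refine norm_ne_degree ht e χ hne ?_
    rw [hz, hd]
    rcases sq_eq_sq_iff_eq_or_eq_neg.1 h with h | h <;> simp [h, d]
  -- expansions
  have ev : ∀ {u : Fin 10 → ℂ} {m : IrrCharacter G → ℤ}, IsClassFunction G (F u) →
      (∀ χ : IrrCharacter G, classInner (F u) (χ : G → ℂ) = m χ) →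
      ∀ x, F u x = ∑ χ, (m χ : ℂ) * (χ : G → ℂ) x := by
    intro u m hF hm x
    conv_lhs => rw [classFunction_eq_sum hF]
    simp [hm]
  have deg : ∀ {u : Fin 10 → ℂ} {m : IrrCharacter G → ℤ}, Supp u → IsClassFunction G (F u) →
      (∀ χ : IrrCharacter G, classInner (F u) (χ : G → ℂ) = m χ) → ∑ χ, m χ * d χ = 0 := by
    intro u m hu hF hm
    have h := ev hF hm 1
    simp only [F, ind_apply_one e hu, hd] at h
    have : ((∑ χ, m χ * d χ : ℤ) : ℂ) = 0 := by simp only [d]; push_cast; exact h.symm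
    exact_mod_cast this
  have hk : (Nat.card {x : G // IsConj t x} : ℂ) = (Nat.card G : ℂ) / 120 := by
    rw [← card_isConj_mul_card_centralizer t, card_Ct e]
    push_cast
    ring
  have hgne : (Nat.card G : ℂ) ≠ 0 := Nat.cast_ne_zero.2 Nat.card_pos.ne'
  have main : ∀ {u : Fin 10 → ℂ} {m : IrrCharacter G → ℤ}, Supp u → IsClassFunction G (F u) →
      (∀ χ : IrrCharacter G, classInner (F u) (χ : G → ℂ) = m χ) →
      ∀ r : ℤ, ∑ i, (clsSize i : ℂ) * (u i * (invTbl i : ℂ)) = r →
      ((Nat.card G : ℤ) : ℚ) * ∑ χ, (m χ : ℚ) * ((z χ : ℚ) ^ 2 / (d χ : ℚ)) = 120 * r := by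
    intro u m hu hF hm r hr
    have h1 := sum_involution_products e ht hu (fun i => (invTbl i : ℂ))
      (fun x hx => by rw [count_fused e ht hall x hx])
    simp only [show indFun (Ct t) (th e u) = F u from rfl, ev hF hm] at h1
    rw [Finset.sum_congr rfl (fun a _ => Finset.sum_comm), Finset.sum_comm] at h1
    simp only [← Finset.mul_sum, CfsgLib.GL23.sum_class_product, hz, hd, hr, hk] at h1
    have h3 : ∀ χ, (m χ : ℂ) * (((Nat.card G : ℂ) / 120) ^ 2 * ((z χ : ℂ) ^ 2 / (dd χ : ℂ))) =
        ((Nat.card G : ℂ) / 120) ^ 2 * ((m χ : ℂ) * ((z χ : ℂ) ^ 2 / (dd χ : ℂ))) :=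
      fun χ => by ring
    rw [Finset.sum_congr rfl (fun χ _ => h3 χ), ← Finset.mul_sum] at h1
    apply Rat.cast_injective (α := ℂ)
    simp only [d]
    push_cast
    refine mul_left_cancel₀ hgne ?_
    linear_combination 14400 * h1
  have L1 := main supp_v1 c1 hn1 0
    (by simp [Fin.sum_univ_succ, clsSize, v1, invTbl]; norm_num)
  have L3 := main supp_v3 c3 hn3 1200
    (by simp [Fin.sum_univ_succ, clsSize, v3, invTbl]; linear_combination (240 : ℂ) * gA_add_gB)
  have L4 := main supp_v4 c4 hn4 (-720)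
    (by simp [Fin.sum_univ_succ, clsSize, v4, invTbl]; norm_num)
  -- subtract the principal character
  let pr : (IrrCharacter G → ℤ) → IrrCharacter G → ℤ := fun n χ => if χ = P0 then 0 else n χ
  have split : ∀ {R : Type} [CommRing R] (n : IrrCharacter G → ℤ) (w : IrrCharacter G → R),
      ∑ χ, (n χ : R) * w χ = (n P0 : R) * w P0 + ∑ χ, (pr n χ : R) * w χ := by
    intro R _ n w
    rw [← Finset.add_sum_erase _ _ (Finset.mem_univ P0),
      ← Finset.add_sum_erase _ (fun χ => (pr n χ : R) * w χ) (Finset.mem_univ P0)]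
    simp only [pr, if_true, Int.cast_zero, zero_mul, zero_add]
    congr 1
    exact Finset.sum_congr rfl fun χ hχ => by rw [if_neg (Finset.mem_erase.1 hχ).1]
  have split2 : ∀ n n' : IrrCharacter G → ℤ,
      ∑ χ, n χ * n' χ = n P0 * n' P0 + ∑ χ, pr n χ * pr n' χ := by
    intro n n'
    have h := split n n'
    simp only [Int.cast_eq] at h
    rw [h]
    congr 1
    refine Finset.sum_congr rfl fun χ _ => ?_
    simp only [pr]
    split_ifs <;> simp
  have hprσ : ∀ {n n' : IrrCharacter G → ℤ}, (∀ χ, n' (σ χ) = n χ) →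
      ∀ χ, pr n' (σ χ) = pr n χ := by
    intro n n' h χ
    simp only [pr]
    by_cases hχ : χ = P0
    · rw [if_pos hχ, if_pos (by rw [hχ, hσP])]
    · rw [if_neg hχ, if_neg (fun hh => hχ (hσ.1 (hh.trans hσP.symm))), h]
  have hsqsum : ∑ χ, d χ ^ 2 = (Nat.card G : ℤ) := by
    have h := column_orth (1 : G) 1
    rw [if_pos (IsConj.refl 1)] at h
    simp only [hd, map_natCast] at h
    have hc : Nat.card (Subgroup.centralizer ({1} : Set G)) = Nat.card G := by
      rw [show Subgroup.centralizer ({1} : Set G) = ⊤ from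
        top_unique fun g _ => Subgroup.mem_centralizer_singleton_iff.2 (by simp)]
      exact Subgroup.card_top
    rw [hc] at h
    have : ((∑ χ, d χ ^ 2 : ℤ) : ℂ) = ((Nat.card G : ℤ) : ℂ) := by
      simp only [d]; push_cast; rw [← h]; simp only [sq]
    exact_mod_cast this
  have h15 : (Nat.card G : ℤ) % 15 = 0 := by omega
  have hdata : Data (Nat.card G : ℤ) σ P0 z d (pr n1) (pr n3) (pr n3') (pr n4) :=
    { hσ := hσ
      hσP := hσP
      m1P := if_pos rfl
      m3P := if_pos rfl
      m4P := if_pos rfl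
      m1σ := hprσ hσ1
      m4σ := hprσ hσ4
      m3σ := hprσ hσ3'
      m3'σ := hprσ hσ3
      hz := fun χ hχ => by simp only [pr, if_neg hχ, z]
      hzP := hzP
      hdP := hdP
      dpos := fun χ => by have := hd0 χ; simp only [d]; omega
      dσ := hdσ
      cong := hcong
      scal := hscal
      h11 := by have := split2 n1 n1; rw [j11, p1] at this; simp only [sq]; linarith
      h33 := by have := split2 n3 n3; rw [j33, p3] at this; simp only [sq]; linarith
      h44 := by have := split2 n4 n4; rw [j44, p4] at this; simp only [sq]; linarith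
      h33' := by have := split2 n3 n3'; rw [j33', p3, p3'] at this; linarith
      h13 := by have := split2 n1 n3; rw [j13, p1, p3] at this; linarith
      h14 := by have := split2 n1 n4; rw [j14, p1, p4] at this; linarith
      h34 := by have := split2 n3 n4; rw [j34, p3, p4] at this; linarith
      deg1 := by
        have := split n1 d
        simp only [Int.cast_eq] at this
        rw [deg supp_v1 c1 hn1, p1] at this
        linarith
      deg3 := by
        have := split n3 d
        simp only [Int.cast_eq] at this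
        rw [deg supp_v3 c3 hn3, p3, hdP] at this
        linarith
      deg4 := by
        have := split n4 d
        simp only [Int.cast_eq] at this
        rw [deg supp_v4 c4 hn4, p4, hdP] at this
        linarith
      L1 := by
        rw [split n1, p1] at L1
        simp only [Int.cast_zero, zero_mul, zero_add, mul_zero] at L1
        exact (mul_eq_zero.1 L1).resolve_left (by exact_mod_cast Nat.card_pos.ne')
      L3 := by
        rw [split n3, p3, hzP, hdP] at L3
        norm_num at L3 ⊢
        linarith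
      L4 := by
        rw [split n4, p4, hzP, hdP] at L4
        norm_num at L4 ⊢
        linarith
      hg := by exact_mod_cast Nat.card_pos
      h16 := by omega
      h15 := h15
      sq := hsqsum }
  rcases decomposition hdata with h | ⟨h, S, a, b, hnd, hda, hspur⟩
  · exact_mod_cast h
  exfalso
  have hg : Nat.card G = 189000 := by exact_mod_cast h
  haveI : Fact (Nat.Prime 7) := ⟨by norm_num⟩
  obtain ⟨x, hx⟩ := exists_prime_orderOf_dvd_card' (G := G) 7 (by rw [hg]; norm_num)
  have hx7 : x ^ 7 = 1 := by rw [← hx, pow_orderOf_eq_one]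
  have hfac : (Nat.card G).factorization 7 ≤ 1 := by
    rw [hg]
    by_contra hh
    push Not at hh
    have := (Nat.Prime.pow_dvd_iff_le_factorization (by norm_num : Nat.Prime 7)
      (by norm_num : (189000 : ℕ) ≠ 0) (k := 2)).2 hh
    norm_num at this
  have hvan : ∀ χ : IrrCharacter G, (7 : ℤ) ∣ d χ → (χ : G → ℂ) x = 0 := by
    intro χ h7
    refine CfsgLib.DefectZeroVanish.vanish_of_defect_zero (p := 7) χ ?_ (by rw [hx])
    refine (pow_dvd_pow 7 hfac).trans ?_
    rw [pow_one, show charDegree (χ : G → ℂ) = dd χ by simp [charDegree, hd]]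
    exact Int.natCast_dvd_natCast.1 (by simpa [d] using h7)
  have hFx : ∀ {u : Fin 10 → ℂ} {m : IrrCharacter G → ℤ}, Supp u → IsClassFunction G (F u) →
      (∀ χ : IrrCharacter G, classInner (F u) (χ : G → ℂ) = m χ) →
      ∑ χ, (m χ : ℂ) * conj ((χ : G → ℂ) x) = 0 := by
    intro u m hu hF hm
    have h := congrArg conj (ev hF hm x)
    simp only [F, ind_apply_seven e ht hu hx7, map_zero, map_sum, map_mul, map_intCast] at h
    exact h.symm
  have wP : conj ((P0 : G → ℂ) x) = 1 := by simp [P0]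
  obtain ⟨wab, wS, wsum⟩ := hspur (fun χ => conj ((χ : G → ℂ) x)) wP
    (fun χ _ h7 => by rw [hvan χ h7, map_zero])
    (by have := hFx supp_v1 c1 hn1; rwa [split n1, p1, Int.cast_zero, zero_mul, zero_add] at this)
    (by have := hFx supp_v3 c3 hn3; rwa [split n3, p3, wP, Int.cast_one, one_mul] at this)
  -- the class equation
  let F0 : G → ℂ := fun g => if IsConj x g then 1 else 0
  have hF0 : IsClassFunction G F0 := fun u g => by
    have : IsConj x (g * u * g⁻¹) ↔ IsConj x u :=
      ⟨fun hh => hh.trans (isConj_iff.2 ⟨g⁻¹, by group⟩), fun hh => hh.trans (isConj_iff.2 ⟨g, rfl⟩)⟩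
    simp only [F0, this]
  let nx : ℂ := ((Finset.univ.filter (IsConj x)).card : ℂ)
  have hnx : nx ≠ 0 := Nat.cast_ne_zero.2
    (Finset.card_pos.2 ⟨x, Finset.mem_filter.2 ⟨Finset.mem_univ _, IsConj.refl x⟩⟩).ne'
  have hcl : ∀ χ : IrrCharacter G, classInner F0 (χ : G → ℂ) =
      (Nat.card G : ℂ)⁻¹ * (nx * conj ((χ : G → ℂ) x)) := by
    intro χ
    rw [classInner]
    congr 1
    rw [show nx * conj ((χ : G → ℂ) x) =
      ∑ g ∈ Finset.univ.filter (IsConj x), conj ((χ : G → ℂ) g) from ?_, Finset.sum_filter]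
    · exact Finset.sum_congr (by ext; simp) fun g _ => by simp only [F0]; split_ifs <;> simp
    · rw [Finset.sum_congr rfl (g := fun _ => conj ((χ : G → ℂ) x)) fun g hg => by
        obtain ⟨c, rfl⟩ := isConj_iff.1 (Finset.mem_filter.1 hg).2
        rw [(isClassFunction_of_isGeneralizedCharacter (isGeneralizedCharacter_irr χ)) x c],
        Finset.sum_const, nsmul_eq_mul]
  have hI : (pairs t x : ℂ) = 14 + 420 * conj ((a : G → ℂ) x) / (d a : ℂ) := by
    have h1 := sum_pairs ht F0
    have h2 : ∑ g : G, F0 g * (pairs t g : ℂ) = nx * (pairs t x : ℂ) := by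
      simp only [F0, ite_mul, one_mul, zero_mul]
      rw [← Finset.sum_filter, Finset.sum_congr rfl (g := fun _ => (pairs t x : ℂ)) fun g hg => by
        obtain ⟨c, rfl⟩ := isConj_iff.1 (Finset.mem_filter.1 hg).2
        rw [pairs_conj], Finset.sum_const, nsmul_eq_mul]
    have h3 : ∀ u, F0 u = ∑ χ : IrrCharacter G, classInner F0 (χ : G → ℂ) * (χ : G → ℂ) u := fun u => by
      conv_lhs => rw [classFunction_eq_sum hF0]
      simp
    rw [h2] at h1
    simp only [h3] at h1
    rw [Finset.sum_congr rfl (fun a _ => Finset.sum_comm), Finset.sum_comm] at h1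
    simp only [← Finset.mul_sum, CfsgLib.GL23.sum_class_product, hz, hd, hk, hcl] at h1
    have h4 : ∀ χ : IrrCharacter G, (Nat.card G : ℂ)⁻¹ * (nx * conj ((χ : G → ℂ) x)) *
        (((Nat.card G : ℂ) / 120) ^ 2 * ((z χ : ℂ) ^ 2 / (dd χ : ℂ))) =
        ((Nat.card G : ℂ)⁻¹ * nx * ((Nat.card G : ℂ) / 120) ^ 2) *
          ((z χ : ℂ) ^ 2 / (d χ : ℂ) * conj ((χ : G → ℂ) x)) :=
      fun χ => by simp only [d, Int.cast_natCast]; ring
    rw [Finset.sum_congr rfl (fun χ _ => h4 χ), ← Finset.mul_sum, wsum, hg] at h1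
    refine mul_left_cancel₀ hnx ?_
    rw [← h1]
    push_cast
    ring
  have hdC : (d a : ℂ) ≠ 0 := Int.cast_ne_zero.2 (by omega)
  have hδq : conj ((a : G → ℂ) x) =
      ((((d a : ℚ) * ((pairs t x : ℚ) - 14) / 420 : ℚ)) : ℂ) := by
    push_cast
    rw [hI]
    field_simp
    ring
  obtain ⟨δ, hδ⟩ := exists_int_of_isIntegral_rat
    (hδq ▸ isIntegral_conj (isIntegral_of_isCharacter (isChar_irr a) x))
  have hδc : conj ((a : G → ℂ) x) = (δ : ℂ) := by
    rw [hδq, ← hδ]; simp
  have hax : (a : G → ℂ) x = (δ : ℂ) := by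
    rw [← Complex.conj_conj ((a : G → ℂ) x), hδc, map_intCast]
  have heq : 420 * δ = d a * ((pairs t x : ℤ) - 14) := by
    have : (420 : ℂ) * (δ : ℂ) = (d a : ℂ) * ((pairs t x : ℂ) - 14) := by
      rw [hI, ← hδc]
      field_simp
      ring
    exact_mod_cast this
  have hPx : (P0 : G → ℂ) x = 1 := by simp [P0]
  refine seven_false ht e hg hx δ (d a) hda ?_ ?_ heq ?_
  · intro h7
    have := hvan a h7
    rw [hax] at this
    exact_mod_cast this
  · -- congruence modulo seven
    letI : Fintype (Subgroup.zpowers x) := Fintype.ofFinite _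
    obtain ⟨k, hk7⟩ := exists_sum_eq (Subgroup.zpowers x) a
    rw [Nat.card_zpowers, hx] at hk7
    have hval : ∀ u : Subgroup.zpowers x, u ≠ 1 → conj ((a : G → ℂ) (u : G)) = δ := by
      intro u hu
      obtain ⟨i, hi⟩ := Subgroup.mem_zpowers_iff.1 u.2
      obtain ⟨j, hj⟩ : ∃ j : Fin 7, x ^ j.val = (u : G) := by
        refine ⟨⟨(i % 7).toNat, by omega⟩, ?_⟩
        rw [← hi, ← zpow_mod_orderOf x i, hx, ← zpow_natCast]
        congr 1
        simp only
        omega
      have hj0 : j ≠ 0 := by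
        rintro rfl
        exact hu (Subtype.ext (by rw [← hj]; simp))
      obtain ⟨m, -, hm7, hm⟩ := seven_exp j hj0
      haveI : NeZero (Nat.card G) := ⟨Nat.card_pos.ne'⟩
      obtain ⟨τ', hτ'⟩ := CfsgLib.CharGalois.exists_autComplex (Nat.card G) (m := m) (hg ▸ hm)
      have h := CfsgLib.CharGalois.map_char_eq_pow (isChar_irr a) τ' hτ' x
      rw [hax, map_intCast] at h
      rw [← hj, ← hm7]
      rw [show x ^ (m % 7) = x ^ m by rw [← hx, pow_mod_orderOf], ← h, map_intCast]
    rw [← Finset.add_sum_erase _ _ (Finset.mem_univ (1 : Subgroup.zpowers x)),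
      Finset.sum_congr rfl (fun u hu => hval u (Finset.mem_erase.1 hu).1), Finset.sum_const,
      Finset.card_erase_of_mem (Finset.mem_univ _), Finset.card_univ,
      ← Nat.card_eq_fintype_card, Nat.card_zpowers, hx, OneMemClass.coe_one, hd, map_natCast] at hk7
    refine ⟨δ - k, ?_⟩
    have : (δ : ℂ) - d a = 7 * ((δ : ℂ) - k) := by
      simp only [d, Int.cast_natCast]
      norm_num at hk7
      linear_combination -hk7
    exact_mod_cast this
  · -- the bound
    have hco := column_orth x x
    rw [if_pos (IsConj.refl x)] at hco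
    have hre : ∑ χ : IrrCharacter G, Complex.normSq ((χ : G → ℂ) x) =
        (Nat.card (Subgroup.centralizer ({x} : Set G)) : ℝ) := by
      simp only [Complex.mul_conj] at hco
      exact_mod_cast hco
    have hle := Finset.sum_le_univ_sum_of_nonneg
      (f := fun χ : IrrCharacter G => Complex.normSq ((χ : G → ℂ) x))
      (fun χ => Complex.normSq_nonneg _) (s := {P0, S, a, b})
    rw [hre] at hle
    simp only [List.nodup_cons, List.mem_cons, List.not_mem_nil, or_false, not_or,
      List.nodup_nil, and_true] at hnd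
    obtain ⟨⟨nS, na, nb⟩, ⟨nSa, nSb⟩, nab, -⟩ := hnd
    have hbx : (b : G → ℂ) x = (δ : ℂ) := by
      rw [← Complex.conj_conj ((b : G → ℂ) x), ← wab, hδc, map_intCast]
    have hSx : (S : G → ℂ) x = 1 := by
      rw [← Complex.conj_conj ((S : G → ℂ) x), wS, map_one]
    rw [Finset.sum_insert (by simp [nS, na, nb]), Finset.sum_insert (by simp [nSa, nSb]),
      Finset.sum_pair nab, hPx, hSx, hax, hbx, Complex.normSq_one,
      show Complex.normSq (δ : ℂ) = (δ : ℝ) * δ by
        rw [show (δ : ℂ) = ((δ : ℝ) : ℂ) by simp, Complex.normSq_ofReal]] at hle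
    have : ((2 + 2 * δ ^ 2 : ℤ) : ℝ) ≤
        (((Nat.card (Subgroup.centralizer ({x} : Set G)) : ℕ) : ℤ) : ℝ) := by
      push_cast
      linarith
    exact_mod_cast this

end CfsgLib.JankoCent
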