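import Cfsg.Agent.Lib.Characters.Clifford
import Cfsg.Agent.Lib.Characters.Generalized
import Cfsg.Agent.Lib.Characters.Artin
import Mathlib.Data.ZMod.Basic
import Mathlib.RingTheory.RootsOfUnity.Complex
import Mathlib.GroupTheory.SpecificGroups.Alternating
import Mathlib.Algebra.Group.TypeTags.Finite

/-!
# Explicit class functions on the product of a group of order two and `A₅`
-/

set_option autoImplicit false
set_option maxRecDepth 100000
set_option maxHeartbeats 4000000
set_option linter.style.haveILetI false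

namespace CfsgLib.JankoCent

open Cfsg CfsgLib.Characters
open scoped ComplexConjugate

/-- The centralizer model. -/
abbrev M : Type := Multiplicative (ZMod 2) × alternatingGroup (Fin 5)

/-- A sign and a list of five images. -/
abbrev T : Type := Bool × Fin 5 × Fin 5 × Fin 5 × Fin 5 × Fin 5

/-- The image of a point. -/
def app (x : T) (i : Fin 5) : Fin 5 :=
  match i with
  | 0 => x.2.1
  | 1 => x.2.2.1
  | 2 => x.2.2.2.1
  | 3 => x.2.2.2.2.1
  | 4 => x.2.2.2.2.2

/-- Build a tuple from a sign and a function. -/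
def mk (b : Bool) (f : Fin 5 → Fin 5) : T := (b, f 0, f 1, f 2, f 3, f 4)

/-- The coordinates of an element. -/
def coords (g : M) : T :=
  mk (decide (Multiplicative.toAdd g.1 = 1)) ((g.2 : Equiv.Perm (Fin 5)) : Fin 5 → Fin 5)

/-- The product in coordinates. -/
def tmul (x y : T) : T := mk (xor x.1 y.1) (fun i => app x (app y i))

/-- The identity. -/
def t1 : T := (false, 0, 1, 2, 3, 4)

/-- The central involution. -/
def tT : T := (true, 0, 1, 2, 3, 4)

/-- The preimage of a point. -/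
def pre (x : T) (i : Fin 5) : Fin 5 :=
  if app x 0 = i then 0 else if app x 1 = i then 1 else if app x 2 = i then 2 else
  if app x 3 = i then 3 else 4

/-- The inverse in coordinates. -/
def tinv (x : T) : T := mk x.1 (pre x)

/-- Conjugation in coordinates. -/
def tconj (x g : T) : T := tmul (tmul (tinv x) g) x

/-- The elements. -/
def gl : List T :=
  [(false, 0, 1, 2, 3, 4), (false, 0, 1, 3, 4, 2), (false, 0, 1, 4, 2, 3), (false, 0, 2, 1, 4, 3),
    (false, 0, 2, 3, 1, 4), (false, 0, 2, 4, 3, 1), (false, 0, 3, 1, 2, 4), (false, 0, 3, 2, 4, 1),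
    (false, 0, 3, 4, 1, 2), (false, 0, 4, 1, 3, 2), (false, 0, 4, 2, 1, 3), (false, 0, 4, 3, 2, 1),
    (false, 1, 0, 2, 4, 3), (false, 1, 0, 3, 2, 4), (false, 1, 0, 4, 3, 2), (false, 1, 2, 0, 3, 4),
    (false, 1, 2, 3, 4, 0), (false, 1, 2, 4, 0, 3), (false, 1, 3, 0, 4, 2), (false, 1, 3, 2, 0, 4),
    (false, 1, 3, 4, 2, 0), (false, 1, 4, 0, 2, 3), (false, 1, 4, 2, 3, 0), (false, 1, 4, 3, 0, 2),
    (false, 2, 0, 1, 3, 4), (false, 2, 0, 3, 4, 1), (false, 2, 0, 4, 1, 3), (false, 2, 1, 0, 4, 3),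
    (false, 2, 1, 3, 0, 4), (false, 2, 1, 4, 3, 0), (false, 2, 3, 0, 1, 4), (false, 2, 3, 1, 4, 0),
    (false, 2, 3, 4, 0, 1), (false, 2, 4, 0, 3, 1), (false, 2, 4, 1, 0, 3), (false, 2, 4, 3, 1, 0),
    (false, 3, 0, 1, 4, 2), (false, 3, 0, 2, 1, 4), (false, 3, 0, 4, 2, 1), (false, 3, 1, 0, 2, 4),
    (false, 3, 1, 2, 4, 0), (false, 3, 1, 4, 0, 2), (false, 3, 2, 0, 4, 1), (false, 3, 2, 1, 0, 4),
    (false, 3, 2, 4, 1, 0), (false, 3, 4, 0, 1, 2), (false, 3, 4, 1, 2, 0), (false, 3, 4, 2, 0, 1),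
    (false, 4, 0, 1, 2, 3), (false, 4, 0, 2, 3, 1), (false, 4, 0, 3, 1, 2), (false, 4, 1, 0, 3, 2),
    (false, 4, 1, 2, 0, 3), (false, 4, 1, 3, 2, 0), (false, 4, 2, 0, 1, 3), (false, 4, 2, 1, 3, 0),
    (false, 4, 2, 3, 0, 1), (false, 4, 3, 0, 2, 1), (false, 4, 3, 1, 0, 2), (false, 4, 3, 2, 1, 0),
    (true, 0, 1, 2, 3, 4), (true, 0, 1, 3, 4, 2), (true, 0, 1, 4, 2, 3), (true, 0, 2, 1, 4, 3),
    (true, 0, 2, 3, 1, 4), (true, 0, 2, 4, 3, 1), (true, 0, 3, 1, 2, 4), (true, 0, 3, 2, 4, 1),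
    (true, 0, 3, 4, 1, 2), (true, 0, 4, 1, 3, 2), (true, 0, 4, 2, 1, 3), (true, 0, 4, 3, 2, 1),
    (true, 1, 0, 2, 4, 3), (true, 1, 0, 3, 2, 4), (true, 1, 0, 4, 3, 2), (true, 1, 2, 0, 3, 4),
    (true, 1, 2, 3, 4, 0), (true, 1, 2, 4, 0, 3), (true, 1, 3, 0, 4, 2), (true, 1, 3, 2, 0, 4),
    (true, 1, 3, 4, 2, 0), (true, 1, 4, 0, 2, 3), (true, 1, 4, 2, 3, 0), (true, 1, 4, 3, 0, 2),
    (true, 2, 0, 1, 3, 4), (true, 2, 0, 3, 4, 1), (true, 2, 0, 4, 1, 3), (true, 2, 1, 0, 4, 3),
    (true, 2, 1, 3, 0, 4), (true, 2, 1, 4, 3, 0), (true, 2, 3, 0, 1, 4), (true, 2, 3, 1, 4, 0),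
    (true, 2, 3, 4, 0, 1), (true, 2, 4, 0, 3, 1), (true, 2, 4, 1, 0, 3), (true, 2, 4, 3, 1, 0),
    (true, 3, 0, 1, 4, 2), (true, 3, 0, 2, 1, 4), (true, 3, 0, 4, 2, 1), (true, 3, 1, 0, 2, 4),
    (true, 3, 1, 2, 4, 0), (true, 3, 1, 4, 0, 2), (true, 3, 2, 0, 4, 1), (true, 3, 2, 1, 0, 4),
    (true, 3, 2, 4, 1, 0), (true, 3, 4, 0, 1, 2), (true, 3, 4, 1, 2, 0), (true, 3, 4, 2, 0, 1),
    (true, 4, 0, 1, 2, 3), (true, 4, 0, 2, 3, 1), (true, 4, 0, 3, 1, 2), (true, 4, 1, 0, 3, 2),
    (true, 4, 1, 2, 0, 3), (true, 4, 1, 3, 2, 0), (true, 4, 2, 0, 1, 3), (true, 4, 2, 1, 3, 0),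
    (true, 4, 2, 3, 0, 1), (true, 4, 3, 0, 2, 1), (true, 4, 3, 1, 0, 2), (true, 4, 3, 2, 1, 0)]

theorem app_mk (b : Bool) (f : Fin 5 → Fin 5) (i : Fin 5) : app (mk b f) i = f i := by
  fin_cases i <;> rfl

theorem app_coords (g : M) (i : Fin 5) : app (coords g) i = (g.2 : Equiv.Perm (Fin 5)) i :=
  app_mk _ _ i

theorem xor_zmod : ∀ a b : Multiplicative (ZMod 2),
    decide (Multiplicative.toAdd (a * b) = 1) =
      xor (decide (Multiplicative.toAdd a = 1)) (decide (Multiplicative.toAdd b = 1)) := by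
  decide

theorem coords_mul (a b : M) : coords (a * b) = tmul (coords a) (coords b) := by
  have h : (fun i => app (coords a) (app (coords b) i)) =
      ((((a * b).2 : alternatingGroup (Fin 5)) : Equiv.Perm (Fin 5)) : Fin 5 → Fin 5) := by
    funext i
    rw [app_coords, app_coords]
    rfl
  rw [show coords (a * b) = mk (decide (Multiplicative.toAdd (a * b).1 = 1))
    ((((a * b).2 : alternatingGroup (Fin 5)) : Equiv.Perm (Fin 5)) : Fin 5 → Fin 5) from rfl,
    tmul, h]
  exact congrArg (fun c => mk c _) (xor_zmod a.1 b.1)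

theorem coords_one : coords 1 = t1 := rfl

theorem coords_injective : Function.Injective coords := by
  intro a b h
  have h2 : ∀ i, (a.2 : Equiv.Perm (Fin 5)) i = (b.2 : Equiv.Perm (Fin 5)) i := fun i => by
    rw [← app_coords, ← app_coords, h]
  have h1 : decide (Multiplicative.toAdd a.1 = 1) = decide (Multiplicative.toAdd b.1 = 1) :=
    congrArg Prod.fst h
  exact Prod.ext ((by decide : ∀ u v : Multiplicative (ZMod 2),
    decide (Multiplicative.toAdd u = 1) = decide (Multiplicative.toAdd v = 1) → u = v) _ _ h1)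
    (Subtype.ext (Equiv.ext h2))

theorem coords_inv (g : M) : coords g⁻¹ = tinv (coords g) := by
  have hp : ∀ i, pre (coords g) i = (g.2 : Equiv.Perm (Fin 5))⁻¹ i := by
    intro i
    obtain ⟨j, rfl⟩ := (g.2 : Equiv.Perm (Fin 5)).surjective i
    rw [show (g.2 : Equiv.Perm (Fin 5))⁻¹ ((g.2 : Equiv.Perm (Fin 5)) j) = j from
      (g.2 : Equiv.Perm (Fin 5)).symm_apply_apply j]
    simp only [pre, app_coords, EmbeddingLike.apply_eq_iff_eq]
    fin_cases j <;> simp
  simp only [tinv, coords, mk, Prod.mk.injEq, Prod.fst_inv, Prod.snd_inv, InvMemClass.coe_inv]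
  refine ⟨?_, (hp 0).symm, (hp 1).symm, (hp 2).symm, (hp 3).symm, (hp 4).symm⟩
  exact (by decide : ∀ u : Multiplicative (ZMod 2),
    decide (Multiplicative.toAdd u⁻¹ = 1) = decide (Multiplicative.toAdd u = 1)) _

theorem coords_conj (x g : M) : coords (x⁻¹ * g * x) = tconj (coords x) (coords g) := by
  rw [coords_mul, coords_mul, coords_inv, tconj]

theorem gl_nodup : gl.Nodup := by decide +kernel

theorem perm_mem : ∀ σ : Equiv.Perm (Fin 5), Equiv.Perm.sign σ = 1 →
    ∀ b : Bool, mk b σ ∈ gl := by decide +kernel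

theorem mem_gl (g : M) : coords g ∈ gl :=
  perm_mem _ (Equiv.Perm.mem_alternatingGroup.1 g.2.2) _

theorem card_M : Nat.card M = 120 := by
  rw [Nat.card_prod, nat_card_alternatingGroup, Nat.card_fin]
  simp [Nat.card_eq_fintype_card, ZMod.card]
  rfl

theorem map_univ [Fintype M] : Finset.univ.map ⟨coords, coords_injective⟩ = gl.toFinset := by
  refine Finset.eq_of_subset_of_card_le ?_ ?_
  · intro x hx
    obtain ⟨g, -, rfl⟩ := Finset.mem_map.1 hx
    exact List.mem_toFinset.2 (mem_gl g)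
  · rw [Finset.card_map, Finset.card_univ, ← Nat.card_eq_fintype_card, card_M,
      List.toFinset_card_of_nodup gl_nodup]
    rfl

theorem exists_coords {x : T} (hx : x ∈ gl) : ∃ g : M, coords g = x := by
  letI : Fintype M := Fintype.ofFinite M
  have h := List.mem_toFinset.2 hx
  rw [← map_univ, Finset.mem_map] at h
  obtain ⟨g, -, hg⟩ := h
  exact ⟨g, hg⟩

theorem sum_coords [Fintype M] {β : Type*} [AddCommMonoid β] (F : T → β) :
    ∑ g : M, F (coords g) = ∑ x ∈ gl.toFinset, F x := by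
  rw [← map_univ, Finset.sum_map]
  rfl

theorem card_toFinset_filter (p : T → Prop) [DecidablePred p] :
    (gl.toFinset.filter p).card = gl.countP (fun x => decide (p x)) := by
  rw [List.countP_eq_length_filter, ← List.toFinset_card_of_nodup (gl_nodup.filter _),
    List.toFinset_filter]
  simp

/-- The number of fixed points. -/
def nfix (x : T) : ℕ :=
  (if app x 0 = 0 then 1 else 0) + (if app x 1 = 1 then 1 else 0) +
  (if app x 2 = 2 then 1 else 0) + (if app x 3 = 3 then 1 else 0) +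
  (if app x 4 = 4 then 1 else 0)

/-- One inversion. -/
def gt (a b : Fin 5) : ℕ := if b < a then 1 else 0

/-- Class of an element: the classes `1, i, w, a, b` of `A₅`, then their products with `t`. -/
def cls (x : T) : Fin 10 :=
  let c := app x 0
  let d := app x c
  let e := app x d
  let f := app x e
  let k : Fin 10 := if nfix x = 5 then 0 else if nfix x = 1 then 1 else if nfix x = 2 then 2 else
    if (gt c d + gt c e + gt c f + gt d e + gt d f + gt e f) % 2 = 0 then 3 else 4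
  if x.1 then k + 5 else k

/-- Class sizes. -/
def clsSize : Fin 10 → ℕ := ![1, 15, 20, 12, 12, 1, 15, 20, 12, 12]

/-- Representatives. -/
def rep : Fin 10 → T :=
  ![(false, 0, 1, 2, 3, 4), (false, 1, 0, 3, 2, 4), (false, 1, 2, 0, 3, 4),
    (false, 1, 2, 3, 4, 0), (false, 2, 3, 4, 0, 1),
    (true, 0, 1, 2, 3, 4), (true, 1, 0, 3, 2, 4), (true, 1, 2, 0, 3, 4),
    (true, 1, 2, 3, 4, 0), (true, 2, 3, 4, 0, 1)]

theorem rep_mem : ∀ i, rep i ∈ gl := by decide +kernel

theorem cls_rep : ∀ i, cls (rep i) = i := by decide +kernel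

theorem card_cls : ∀ i, gl.countP (fun x => decide (cls x = i)) = clsSize i := by decide +kernel

theorem cls_conj_rep : ∀ i, ∀ x ∈ gl, cls (tconj x (rep i)) = i := by
  have h : ∀ i : Fin 10, gl.all (fun x => decide (cls (tconj x (rep i)) = i)) = true := by
    decide +kernel
  exact fun i x hx => of_decide_eq_true (List.all_eq_true.1 (h i) x hx)

theorem conj_rep : ∀ g ∈ gl, ∃ x ∈ gl, tconj x (rep (cls g)) = g := by decide +kernel

theorem cls_conj : ∀ g ∈ gl, ∀ x ∈ gl, cls (tconj x g) = cls g := by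
  intro g hg x hx
  obtain ⟨y, hy, hyg⟩ := conj_rep g hg
  obtain ⟨a, rfl⟩ := exists_coords hx
  obtain ⟨b, rfl⟩ := exists_coords hy
  obtain ⟨r, hr⟩ := exists_coords (rep_mem (cls g))
  rw [← hr, ← coords_conj] at hyg
  conv_lhs => rw [← hyg, ← coords_conj, show a⁻¹ * (b⁻¹ * r * b) * a = (b * a)⁻¹ * r * (b * a) by
    simp [mul_assoc], coords_conj, hr]
  exact cls_conj_rep _ _ (mem_gl _)

theorem sum_cls [Fintype M] (v : Fin 10 → ℂ) :
    ∑ g : M, v (cls (coords g)) = ∑ i, (clsSize i : ℂ) * v i := by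
  rw [sum_coords (fun x => v (cls x)),
    ← Finset.sum_fiberwise gl.toFinset cls fun x => v (cls x)]
  refine Finset.sum_congr rfl fun i _ => ?_
  rw [Finset.sum_congr rfl (g := fun _ => v i) fun x hx => by rw [(Finset.mem_filter.1 hx).2],
    Finset.sum_const, nsmul_eq_mul, card_toFinset_filter, card_cls]

/-- The class function with values `v`. -/
noncomputable def cf (v : Fin 10 → ℂ) : M → ℂ := fun g => v (cls (coords g))

theorem isClassFunction_cf (v : Fin 10 → ℂ) : IsClassFunction M (cf v) := by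
  intro a b
  refine congrArg v ?_
  rw [show b * a * b⁻¹ = (b⁻¹)⁻¹ * a * b⁻¹ by simp, coords_conj]
  exact cls_conj _ (mem_gl a) _ (mem_gl b⁻¹)

theorem eq_of_rep {f h : M → ℂ} (hf : IsClassFunction M f) (hh : IsClassFunction M h)
    (e : ∀ g : M, (∃ i, coords g = rep i) → f g = h g) : f = h := by
  funext g
  obtain ⟨x, hx, hxg⟩ := conj_rep _ (mem_gl g)
  obtain ⟨a, rfl⟩ := exists_coords hx
  obtain ⟨r, hr⟩ := exists_coords (rep_mem (cls (coords g)))
  rw [← hr, ← coords_conj] at hxg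
  rw [← coords_injective hxg]
  have hf' := hf r a⁻¹
  have hh' := hh r a⁻¹
  rw [inv_inv] at hf' hh'
  rw [hf', hh', e r ⟨_, hr⟩]

/-- A subgroup given by a decidable condition on coordinates. -/
def sub (p : T → Prop) (h1 : p t1) (hm : ∀ x ∈ gl, p x → ∀ y ∈ gl, p y → p (tmul x y)) :
    Subgroup M where
  carrier := {g | p (coords g)}
  one_mem' := by show p (coords 1); rw [coords_one]; exact h1
  mul_mem' := fun {a b} ha hb => by
    show p (coords (a * b)); rw [coords_mul]; exact hm _ (mem_gl a) ha _ (mem_gl b) hb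
  inv_mem' := fun {a} ha => by
    have hpow : ∀ n : ℕ, p (coords (a ^ n)) := by
      intro n
      induction n with
      | zero => rw [pow_zero, coords_one]; exact h1
      | succ n ih =>
        rw [pow_succ, coords_mul]; exact hm _ (mem_gl _) ih _ (mem_gl a) ha
    show p (coords a⁻¹)
    rw [inv_eq_of_mul_eq_one_right (b := a ^ (orderOf a - 1)) (by
      rw [← pow_succ', Nat.sub_add_cancel (orderOf_pos a), pow_orderOf_eq_one])]
    exact hpow _

theorem card_sub (p : T → Prop) [DecidablePred p] (h1 : p t1)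
    (hm : ∀ x ∈ gl, p x → ∀ y ∈ gl, p y → p (tmul x y)) :
    Nat.card (sub p h1 hm) = gl.countP (fun x => decide (p x)) := by
  classical
  haveI : Fintype M := Fintype.ofFinite M
  rw [← card_toFinset_filter, ← map_univ, Finset.filter_map, Finset.card_map,
    Nat.card_eq_fintype_card, Fintype.card_subtype]
  congr 1
  ext g
  simp only [Finset.mem_filter, Finset.mem_univ, true_and, Function.comp_apply,
    Function.Embedding.coeFn_mk]
  rfl

/-- Number of elements conjugating `g` into the subgroup with exponent `k`. -/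
def cnt (p : T → Prop) [DecidablePred p] (l : T → Fin 5) (g : T) (k : Fin 5) : ℕ :=
  gl.countP fun x => decide (p (tconj x g) ∧ l (tconj x g) = k)

/-- The linear function with exponents `l`. -/
noncomputable def lin (ζ : ℂ) (l : T → Fin 5) (H : Subgroup M) : H → ℂ :=
  fun h => ζ ^ (l (coords (h : M))).val

theorem isGeneralized_ind [Fintype M] {ζ : ℂ} (hζ : ζ ^ 5 = 1) (p : T → Prop) (h1 : p t1)
    (hm : ∀ x ∈ gl, p x → ∀ y ∈ gl, p y → p (tmul x y)) (l : T → Fin 5) (hl1 : (l t1).val = 0)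
    (hl : ∀ x ∈ gl, p x → ∀ y ∈ gl, p y →
      (l (tmul x y)).val = ((l x).val + (l y).val) % 5) :
    IsGeneralizedCharacter M (indFun (sub p h1 hm) (lin ζ l _)) := by
  refine CfsgLib.CharArtin.isGeneralizedCharacter_indFun _
    (isGeneralizedCharacter_of_isCharacter ?_)
  let f : sub p h1 hm →* ℂ :=
    { toFun := lin ζ l _
      map_one' := by show ζ ^ (l (coords 1)).val = 1; rw [coords_one, hl1, pow_zero]
      map_mul' := fun a b => by
        show ζ ^ (l (coords ((a : M) * b))).val = _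
        rw [coords_mul, hl _ (mem_gl _) a.2 _ (mem_gl _) b.2, ← pow_eq_pow_mod _ hζ, pow_add]
        rfl }
  exact CfsgLib.Induction.isCharacter_monoidHom f

theorem ind_apply [Fintype M] (ζ : ℂ) (p : T → Prop) [DecidablePred p] (h1 : p t1)
    (hm : ∀ x ∈ gl, p x → ∀ y ∈ gl, p y → p (tmul x y)) (l : T → Fin 5) (g : M) :
    indFun (sub p h1 hm) (lin ζ l _) g =
      (gl.countP (fun x => decide (p x)) : ℂ)⁻¹ *
        ∑ k : Fin 5, (cnt p l (coords g) k : ℂ) * ζ ^ k.val := by
  classical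
  rw [CfsgLib.Induction.indFun_apply, card_sub p h1 hm]
  congr 1
  have hx : ∀ x : M, extendByZero (sub p h1 hm) (lin ζ l _) (x⁻¹ * g * x) =
      ∑ k : Fin 5, if p (tconj (coords x) (coords g)) ∧ l (tconj (coords x) (coords g)) = k
        then ζ ^ k.val else 0 := by
    intro x
    by_cases hp : p (tconj (coords x) (coords g))
    · have hmem : x⁻¹ * g * x ∈ sub p h1 hm := by
        show p (coords (x⁻¹ * g * x))
        rwa [coords_conj]
      rw [CfsgLib.Induction.extendByZero_mem _ _ hmem]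
      simp only [hp, true_and, Finset.sum_ite_eq, Finset.mem_univ, if_true, lin, coords_conj]
    · have hmem : x⁻¹ * g * x ∉ sub p h1 hm := by
        show ¬ p (coords (x⁻¹ * g * x))
        rwa [coords_conj]
      rw [CfsgLib.Induction.extendByZero_notMem _ _ hmem]
      simp [hp]
  rw [Finset.sum_congr rfl fun x _ => hx x,
    sum_coords (fun y => ∑ k : Fin 5, if p (tconj y (coords g)) ∧ l (tconj y (coords g)) = k
      then ζ ^ k.val else 0), Finset.sum_comm]
  refine Finset.sum_congr rfl fun k _ => ?_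
  rw [← Finset.sum_filter, Finset.sum_const, nsmul_eq_mul, card_toFinset_filter]
  rfl

/-! ## The subgroups and the exponents -/

/-- The product with `A₄`. -/
def pA (x : T) : Prop := app x 4 = 4

/-- The product with a dihedral group of order ten. -/
def pD (x : T) : Prop :=
  (app x 1 = app x 0 + 1 ∧ app x 2 = app x 0 + 2 ∧ app x 3 = app x 0 + 3 ∧ app x 4 = app x 0 + 4) ∨
  (app x 1 = app x 0 + 4 ∧ app x 2 = app x 0 + 3 ∧ app x 3 = app x 0 + 2 ∧ app x 4 = app x 0 + 1)

/-- The product with a cyclic group of order five. -/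
def pC (x : T) : Prop :=
  app x 1 = app x 0 + 1 ∧ app x 2 = app x 0 + 2 ∧ app x 3 = app x 0 + 3 ∧ app x 4 = app x 0 + 4

/-- A Sylow `2`-subgroup. -/
def pS (x : T) : Prop :=
  app x 4 = 4 ∧ (cls x = 0 ∨ cls x = 1 ∨ cls x = 5 ∨ cls x = 6)

instance : DecidablePred pA := fun _ => inferInstanceAs (Decidable (_ = _))
instance : DecidablePred pD := fun _ => inferInstanceAs (Decidable (_ ∨ _))
instance : DecidablePred pC := fun _ => inferInstanceAs (Decidable (_ ∧ _))
instance : DecidablePred pS := fun _ => inferInstanceAs (Decidable (_ ∧ _))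

/-- The trivial exponent. -/
def lOne (_ : T) : Fin 5 := 0

/-- The exponent in the cyclic group of order five. -/
def lC (x : T) : Fin 5 := app x 0

theorem pA_mul : ∀ x ∈ gl, pA x → ∀ y ∈ gl, pA y → pA (tmul x y) := by decide +kernel
theorem pD_mul : ∀ x ∈ gl, pD x → ∀ y ∈ gl, pD y → pD (tmul x y) := by decide +kernel
theorem pC_mul : ∀ x ∈ gl, pC x → ∀ y ∈ gl, pC y → pC (tmul x y) := by decide +kernel
theorem pS_mul : ∀ x ∈ gl, pS x → ∀ y ∈ gl, pS y → pS (tmul x y) := by decide +kernel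

theorem pA_one : pA t1 := by decide +kernel
theorem pD_one : pD t1 := by decide +kernel
theorem pC_one : pC t1 := by decide +kernel
theorem pS_one : pS t1 := by decide +kernel

theorem lC_mul : ∀ x ∈ gl, pC x → ∀ y ∈ gl, pC y →
    (lC (tmul x y)).val = ((lC x).val + (lC y).val) % 5 := by decide +kernel

theorem card_pA : gl.countP (fun x => decide (pA x)) = 24 := by decide +kernel
theorem card_pD : gl.countP (fun x => decide (pD x)) = 20 := by decide +kernel
theorem card_pC : gl.countP (fun x => decide (pC x)) = 10 := by decide +kernel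
theorem card_pS : gl.countP (fun x => decide (pS x)) = 8 := by decide +kernel

theorem cnt_A : ∀ i k, cnt pA lOne (rep i) k =
    if k = 0 then ![120, 24, 48, 0, 0, 120, 24, 48, 0, 0] i else 0 := by decide +kernel
theorem cnt_D : ∀ i k, cnt pD lOne (rep i) k =
    if k = 0 then ![120, 40, 0, 20, 20, 120, 40, 0, 20, 20] i else 0 := by decide +kernel

/-- The counts for the cyclic group. -/
def tblC : Fin 10 → Fin 5 → ℕ :=
  ![![120, 0, 0, 0, 0], fun _ => 0, fun _ => 0, ![0, 10, 0, 0, 10], ![0, 0, 10, 10, 0],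
    ![120, 0, 0, 0, 0], fun _ => 0, fun _ => 0, ![0, 10, 0, 0, 10], ![0, 0, 10, 10, 0]]

theorem cnt_C : ∀ i k, cnt pC lC (rep i) k = tblC i k := by decide +kernel

end CfsgLib.JankoCent
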