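import Mathlib.NumberTheory.Divisors
import Mathlib.Data.Nat.Prime.Basic
import Mathlib.Data.Nat.Prime.Int
import Mathlib.RingTheory.Coprime.Lemmas
import Mathlib.Tactic.IntervalCases
import Mathlib.Tactic.LinearCombination
import Mathlib.Tactic.Linarith
import Mathlib.Tactic.Ring
import Mathlib.Tactic.NormNum

/-!
# Elements of order seven in the spurious case
-/

set_option autoImplicit false

namespace CfsgLib.JankoCent

theorem seven_box : ∀ i j k l : Fin 4, ∀ r ∈ ([2, 6] : List ℕ),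
    (7 * (3 ^ k.val * 5 ^ l.val)) ∣ (7 * (3 ^ i.val * 5 ^ j.val)) →
    (3 ^ k.val * 5 ^ l.val) % 7 = 6 →
    189000 % (7 * (3 ^ i.val * 5 ^ j.val) * r) = 0 →
    189000 / (7 * (3 ^ i.val * 5 ^ j.val) * r) % 7 = 1 →
    3 ^ k.val * 5 ^ l.val = 125 ∧ 7 * (3 ^ i.val * 5 ^ j.val) ≤ 2625 := by decide +kernel

theorem exists_exp {n : ℕ} (h : n ∣ 3375) : ∃ i j : Fin 4, n = 3 ^ i.val * 5 ^ j.val := by
  obtain ⟨a, b, ha, hb, rfl⟩ := (Nat.dvd_mul.1 (show n ∣ 3 ^ 3 * 5 ^ 3 from h))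
  obtain ⟨i, hi, rfl⟩ := (Nat.dvd_prime_pow (by decide : Nat.Prime 3)).1 ha
  obtain ⟨j, hj, rfl⟩ := (Nat.dvd_prime_pow (by decide : Nat.Prime 5)).1 hb
  exact ⟨⟨i, by omega⟩, ⟨j, by omega⟩, rfl⟩

/-- The two possibilities for the centralizer are both excluded. -/
theorem seven_arith {C r n I : ℕ} {δ d : ℤ} (hC : Odd C) (hC7 : 7 ∣ C) (hI7 : 7 ∣ I)
    (hIC : I ∣ C) (hr : r ∣ 6) (hr2 : 2 ∣ r) (hcount : C * r * n = 189000) (hn : n % 7 = 1)
    (hcong : (7 : ℤ) ∣ δ - d) (hd : ¬ (7 : ℤ) ∣ d) (heq : 420 * δ = d * ((I : ℤ) - 14))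
    (hbound : 2 + 2 * δ ^ 2 ≤ (C : ℤ)) : False := by
  obtain ⟨c, rfl⟩ := hC7
  obtain ⟨j, rfl⟩ := hI7
  have hj : j ∣ c := (mul_dvd_mul_iff_left (by norm_num : (7 : ℕ) ≠ 0)).1 hIC
  have h7c : c ∣ 27000 := ⟨r * n, by linarith⟩
  have hc : c ∣ 3375 := by
    have hco : Nat.Coprime c 8 := by
      rw [show (8 : ℕ) = 2 ^ 3 by norm_num]
      refine Nat.Coprime.pow_right _ ?_
      rw [Nat.coprime_two_right]
      exact Nat.Odd.of_mul_right hC
    exact hco.dvd_of_dvd_mul_right (show c ∣ 3375 * 8 by simpa using h7c)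
  obtain ⟨i1, j1, rfl⟩ := exists_exp hc
  obtain ⟨k1, l1, rfl⟩ := exists_exp (dvd_trans hj hc)
  have hr' : r ∈ ([2, 6] : List ℕ) := by
    have := Nat.le_of_dvd (by norm_num) hr
    interval_cases r <;> simp_all
  have hmod : (3 ^ k1.val * 5 ^ l1.val) % 7 = 6 := by
    generalize 3 ^ k1.val * 5 ^ l1.val = J at heq
    push_cast at heq
    have e : 60 * δ = d * ((J : ℤ) - 2) := by linarith
    obtain ⟨q, hq⟩ := hcong
    obtain rfl : δ = d + 7 * q := by omega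
    have h1 : (7 : ℤ) ∣ d * ((J : ℤ) - 6) := ⟨8 * d + 60 * q, by linarith⟩
    rcases (show Prime ((7 : ℕ) : ℤ) from Nat.prime_iff_prime_int.1 (by decide)).dvd_or_dvd h1 with h2 | h2
    · exact absurd h2 hd
    · obtain ⟨u, hu⟩ := h2
      omega
  have hdiv : 189000 / (7 * (3 ^ i1.val * 5 ^ j1.val) * r) = n := by
    rw [← hcount, Nat.mul_div_cancel_left]
    rcases Nat.eq_zero_or_pos (7 * (3 ^ i1.val * 5 ^ j1.val) * r) with h0 | h0
    · rw [h0, zero_mul] at hcount; omega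
    · exact h0
  obtain ⟨h125, hle⟩ := seven_box i1 j1 k1 l1 r hr' hIC hmod
    (by rw [← hcount]; exact Nat.mul_mod_right _ _) (by rw [hdiv]; exact hn)
  rw [h125] at heq
  push_cast at heq
  have hle' : ((7 * (3 ^ i1.val * 5 ^ j1.val) : ℕ) : ℤ) ≤ 2625 := by exact_mod_cast hle
  have e : 20 * δ = 41 * d := by linarith
  have h41 : (41 : ℤ) ∣ δ := by
    obtain ⟨q, hq⟩ : ∃ q, δ = 41 * q := ⟨δ - 2 * d, by linarith⟩
    exact ⟨q, hq⟩
  obtain ⟨q, rfl⟩ := h41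
  have hq : q ≠ 0 := by rintro rfl; exact hd ⟨0, by omega⟩
  have : 0 < q ^ 2 := sq_pos_of_ne_zero hq
  nlinarith

end CfsgLib.JankoCent
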