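import Cfsg.Agent.Lib.JankoCent.Local
import Cfsg.Agent.Lib.JankoCent.SevenArith
import Mathlib.GroupTheory.SpecificGroups.Cyclic
import Mathlib.GroupTheory.GroupAction.Quotient
import Mathlib.Data.Nat.Totient

/-!
# The centralizer of an element of order seven in the spurious case
-/

set_option autoImplicit false
set_option linter.style.haveILetI false

namespace CfsgLib.JankoCent

variable {G : Type*} [Group G] {t x : G}

theorem mem_cent {g : G} : g ∈ Subgroup.centralizer ({x} : Set G) ↔ g * x = x * g :=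
  Subgroup.mem_centralizer_singleton_iff

theorem invert_of_pair {a : G} (h1 : a * a = 1) (h2 : a * x * (a * x) = 1) :
    a * x * a⁻¹ = x⁻¹ := by
  rw [show a⁻¹ = a from inv_eq_of_mul_eq_one_right h1]
  exact eq_inv_of_mul_eq_one_left (by rw [mul_assoc, mul_assoc, ← mul_assoc]; exact h2)

variable [Fintype G]

theorem seven_false [IsSimpleGroup G] [DecidableRel (IsConj : G → G → Prop)] (ht : orderOf t = 2)
    (e : Ct t ≃* M) (hg : Nat.card G = 189000) (hx : orderOf x = 7) (δ d : ℤ)
    (hd : 1 ≤ d) (hvan : (7 : ℤ) ∣ d → δ = 0) (hcong : (7 : ℤ) ∣ δ - d)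
    (heq : 420 * δ = d * ((pairs t x : ℤ) - 14))
    (hbound : 2 + 2 * δ ^ 2 ≤ (Nat.card (Subgroup.centralizer ({x} : Set G)) : ℤ)) : False := by
  classical
  haveI : Fact (Nat.Prime 7) := ⟨by norm_num⟩
  have h16 : Nat.card G % 16 = 8 := by rw [hg]
  have hndvd : ∀ u : G, IsConj t u → x ∉ Subgroup.centralizer ({u} : Set G) := by
    intro u hu hxu
    have h2 : Nat.card (Subgroup.centralizer ({u} : Set G)) = 120 := by
      have a1 := CfsgLib.Characters.card_isConj_mul_card_centralizer t
      have a2 := CfsgLib.Characters.card_isConj_mul_card_centralizer u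
      have e' : Nat.card {y : G // IsConj u y} = Nat.card {y : G // IsConj t y} :=
        Nat.card_congr (Equiv.subtypeEquivRight fun y => ⟨hu.trans, hu.symm.trans⟩)
      rw [e', ← a1, card_Ct e] at a2
      exact Nat.eq_of_mul_eq_mul_left (Nat.card_pos_iff.2 ⟨⟨⟨t, IsConj.refl t⟩⟩, inferInstance⟩) a2
    have h3 := Subgroup.orderOf_dvd_natCard _ hxu
    rw [h2, hx] at h3
    norm_num at h3
  let C := Subgroup.centralizer ({x} : Set G)
  have hxC : x ∈ C := mem_cent.2 rfl
  have hC7 : 7 ∣ Nat.card C := hx ▸ Subgroup.orderOf_dvd_natCard C hxC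
  have hCodd : Odd (Nat.card C) := by
    rw [← Nat.not_even_iff_odd]
    intro hev
    haveI : Fact (Nat.Prime 2) := ⟨Nat.prime_two⟩
    obtain ⟨u, hu⟩ := exists_prime_orderOf_dvd_card' 2 hev.two_dvd
    refine hndvd u (conj_of_involution ht e h16 (by rwa [Subgroup.orderOf_coe])) ?_
    exact mem_cent.2 (mem_cent.1 u.2).symm
  let A : Type _ := {a : G // IsConj t a ∧ IsConj t (a * x)}
  have hA : pairs t x = Nat.card A := by
    rw [Nat.card_eq_fintype_card, Fintype.card_subtype, pairs]
  rcases isEmpty_or_nonempty A with hempty | ⟨⟨a0, h0, h0x⟩⟩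
  · rw [hA, Nat.card_of_isEmpty] at heq
    push_cast at heq
    have e1 : 30 * δ = -d := by linarith
    have h7δ : (7 : ℤ) ∣ δ := by
      obtain ⟨q, hq⟩ := hcong
      have : (7 : ℤ) ∣ 3 * δ := ⟨-(4 * δ) + q, by linarith⟩
      omega
    have := hvan (by omega)
    omega
  -- the centralizer acts transitively
  have hconj : ∀ (c : G) (y : G), IsConj t y → IsConj t (c * y * c⁻¹) := fun c y hy =>
    hy.trans (isConj_iff.2 ⟨c, rfl⟩)
  letI act : MulAction C A :=
    { smul := fun c a => ⟨(c : G) * a.1 * (c : G)⁻¹, hconj _ _ a.2.1, by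
        have hc : (c : G) * x * (c : G)⁻¹ = x := by rw [mem_cent.1 c.2]; group
        rw [show (c : G) * a.1 * (c : G)⁻¹ * x = (c : G) * a.1 * (c : G)⁻¹ * ((c : G) * x * (c : G)⁻¹)
          by rw [hc], show (c : G) * a.1 * (c : G)⁻¹ * ((c : G) * x * (c : G)⁻¹) =
          (c : G) * (a.1 * x) * (c : G)⁻¹ by group]
        exact hconj _ _ a.2.2⟩
      one_smul := fun a => Subtype.ext (by simp [HSMul.hSMul, SMul.smul])
      mul_smul := fun c c' a => Subtype.ext (by simp [HSMul.hSMul, SMul.smul, mul_assoc]) }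
  have smul_def : ∀ (c : C) (a : A), ((c • a : A) : G) = (c : G) * a.1 * (c : G)⁻¹ :=
    fun _ _ => rfl
  have hsq : ∀ a : A, a.1 * a.1 = 1 := fun a => (sq_of_isConj ht a.2.1).1
  have hinvert : ∀ a : A, a.1 * x * a.1⁻¹ = x⁻¹ := fun a =>
    invert_of_pair (hsq a) (sq_of_isConj ht a.2.2).1
  have trans : MulAction.IsPretransitive C A := by
    constructor
    intro a b
    have hinvC : a.1 * b.1 ∈ C := by
      refine mem_cent.2 (mul_inv_eq_iff_eq_mul.1 ?_)
      rw [mul_inv_rev, show a.1 * b.1 * x * (b.1⁻¹ * a.1⁻¹) = a.1 * (b.1 * x * b.1⁻¹) * a.1⁻¹ by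
        group, hinvert b, ← conj_inv, hinvert a, inv_inv]
    let c : G := a.1 * b.1
    have hco : Odd (orderOf c) := hCodd.of_dvd_nat (Subgroup.orderOf_dvd_natCard C hinvC)
    obtain ⟨k, hk⟩ := hco
    let r : G := c ^ (k + 1)
    have hr2 : r * r = c := by
      rw [← pow_add, show k + 1 + (k + 1) = orderOf c + 1 by omega, pow_succ, pow_orderOf_eq_one,
        one_mul]
    have hac : a.1 * c * a.1⁻¹ = c⁻¹ := by
      rw [show a.1 * c * a.1⁻¹ = a.1 * a.1 * b.1 * a.1⁻¹ by simp [c, mul_assoc], hsq a, one_mul,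
        mul_inv_rev, inv_eq_of_mul_eq_one_right (hsq b)]
    have har : a.1 * r * a.1⁻¹ = r⁻¹ := by rw [← conj_pow, hac, inv_pow]
    refine ⟨⟨r⁻¹, inv_mem (pow_mem hinvC _)⟩, Subtype.ext ?_⟩
    rw [smul_def]
    simp only [inv_inv]
    calc r⁻¹ * a.1 * r = a.1 * r * a.1⁻¹ * a.1 * r := by rw [har]
      _ = a.1 * (r * r) := by group
      _ = a.1 * a.1 * b.1 := by rw [hr2, ← mul_assoc]
      _ = b.1 := by rw [hsq a, one_mul]
  let a : A := ⟨a0, h0, h0x⟩
  have hidx := MulAction.index_stabilizer_of_transitive C a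
  have hstab : ¬ 7 ∣ Nat.card (MulAction.stabilizer C a) := by
    intro h7
    obtain ⟨z, hz⟩ := exists_prime_orderOf_dvd_card' 7 h7
    have hfix := congrArg Subtype.val (z.2 : (z : C) • a = a)
    rw [smul_def] at hfix
    have hz' : ((z : C) : G) ∈ Subgroup.centralizer ({a0} : Set G) :=
      mem_cent.2 (mul_inv_eq_iff_eq_mul.1 hfix)
    have hcard : Nat.card (Subgroup.centralizer ({a0} : Set G)) = 120 := by
      have a1 := CfsgLib.Characters.card_isConj_mul_card_centralizer t
      have a2 := CfsgLib.Characters.card_isConj_mul_card_centralizer a0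
      have e' : Nat.card {y : G // IsConj a0 y} = Nat.card {y : G // IsConj t y} :=
        Nat.card_congr (Equiv.subtypeEquivRight fun y => ⟨h0.trans, h0.symm.trans⟩)
      rw [e', ← a1, card_Ct e] at a2
      exact Nat.eq_of_mul_eq_mul_left (Nat.card_pos_iff.2 ⟨⟨⟨t, IsConj.refl t⟩⟩, inferInstance⟩) a2
    have h3 := Subgroup.orderOf_dvd_natCard _ hz'
    rw [hcard, Subgroup.orderOf_coe, Subgroup.orderOf_coe, hz] at h3
    norm_num at h3
  have hprod := (MulAction.stabilizer C a).index_mul_card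
  rw [hidx, ← hA] at hprod
  have hI7 : 7 ∣ pairs t x := by
    rw [← hprod] at hC7
    exact ((Nat.Prime.dvd_mul (by norm_num)).1 hC7).resolve_right hstab
  have hIC : pairs t x ∣ Nat.card C := ⟨_, hprod.symm⟩
  -- the normalizer
  let P := Subgroup.zpowers x
  have hP : Nat.card P = 7 := by rw [Nat.card_zpowers, hx]
  have hcent : Subgroup.centralizer (P : Set G) = C := by
    refine le_antisymm (fun g hg' => mem_cent.2 ?_) fun g hg' => ?_
    · exact ((Subgroup.mem_centralizer_iff.1 hg') x (Subgroup.mem_zpowers x)).symm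
    · refine Subgroup.mem_centralizer_iff.2 fun y hy => ?_
      obtain ⟨i, rfl⟩ := Subgroup.mem_zpowers_iff.1 hy
      exact ((show Commute g x from mem_cent.1 hg').zpow_right i).symm.eq
  let N := Subgroup.normalizer (P : Set G)
  have hCN : C ≤ N := hcent ▸ Subgroup.centralizer_le_normalizer _
  have ha0N : a0 ∈ N := by
    have hx' : a0 * x * a0⁻¹ = x⁻¹ := hinvert a
    rw [Subgroup.mem_normalizer_iff]
    intro h
    constructor
    · intro hh
      obtain ⟨i, rfl⟩ := Subgroup.mem_zpowers_iff.1 hh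
      rw [← conj_zpow, hx']
      exact Subgroup.zpow_mem _ (inv_mem (Subgroup.mem_zpowers x)) i
    · intro hh
      obtain ⟨i, hi⟩ := Subgroup.mem_zpowers_iff.1 hh
      have : h = (a0⁻¹ * x * a0⁻¹⁻¹) ^ i := by
        rw [conj_zpow, hi]; group
      rw [this, inv_eq_of_mul_eq_one_right (hsq a),
        show a0 * x * a0⁻¹ = x⁻¹ from hx']
      exact Subgroup.zpow_mem _ (inv_mem (Subgroup.mem_zpowers x)) i
  obtain ⟨r, hr, hN⟩ : ∃ r, r ∣ 6 ∧ Nat.card N = Nat.card C * r := by
    refine ⟨(Subgroup.normalizerMonoidHom P).ker.index, ?_, ?_⟩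
    · rw [Subgroup.index_ker]
      have h := Subgroup.card_subgroup_dvd_card (Subgroup.normalizerMonoidHom P).range
      rw [IsCyclic.card_mulAut, hP] at h
      rwa [show Nat.totient 7 = 6 by rw [Nat.totient_prime (by norm_num)]] at h
    · rw [← (Subgroup.normalizerMonoidHom P).ker.index_mul_card, mul_comm]
      congr 1
      rw [Subgroup.normalizerMonoidHom_ker, hcent]
      exact Nat.card_congr (Subgroup.subgroupOfEquivOfLe hCN).toEquiv
  have hr2 : 2 ∣ r := by
    have h2 : 2 ∣ Nat.card N := by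
      have h := Subgroup.orderOf_dvd_natCard N ha0N
      rwa [orderOf_eq_prime (by rw [sq]; exact hsq a) (sq_of_isConj ht h0).2] at h
    rw [hN] at h2
    exact ((Nat.Prime.dvd_mul Nat.prime_two).1 h2).resolve_left (by
      intro hh; rw [Nat.odd_iff] at hCodd; omega)
  have hfac : (Nat.card G).factorization 7 = 1 := by
    rw [hg]
    have h1 := (Nat.Prime.pow_dvd_iff_le_factorization (by norm_num : Nat.Prime 7)
      (by norm_num : (189000 : ℕ) ≠ 0) (k := 1)).1 (by norm_num)
    have h2 : ¬ 2 ≤ (189000 : ℕ).factorization 7 := fun hh => by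
      have := (Nat.Prime.pow_dvd_iff_le_factorization (by norm_num : Nat.Prime 7)
        (by norm_num : (189000 : ℕ) ≠ 0) (k := 2)).2 hh
      norm_num at this
    omega
  let Q : Sylow 7 G := Sylow.ofCard P (by rw [hP, hfac]; norm_num)
  have hn : N.index % 7 = 1 := by
    have h1 := card_sylow_modEq_one 7 G
    rw [Q.card_eq_index_normalizer] at h1
    exact h1
  have hcount : Nat.card C * r * N.index = 189000 := by
    rw [← hN, Subgroup.card_mul_index, hg]
  have hd7 : ¬ (7 : ℤ) ∣ d := by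
    intro h7
    have hδ := hvan h7
    rw [hδ] at heq
    have hI14 : (pairs t x : ℤ) - 14 = 0 := (mul_eq_zero.1 (by linarith : d * ((pairs t x : ℤ) - 14) = 0)).resolve_left (by omega)
    have : Odd (pairs t x) := hCodd.of_dvd_nat hIC
    rw [Nat.odd_iff] at this
    omega
  exact seven_arith hCodd hC7 hI7 hIC hr hr2 hcount hn hcong hd7 heq hbound

end CfsgLib.JankoCent
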